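import Cfsg.Agent.Lib.MaxSub.OmExtra.Quad
import Cfsg.Agent.Lib.MaxSub.SpExtra.Main
import Cfsg.Agent.Lib.MaxSub.TFormSSKron
import Cfsg.Agent.Lib.MaxSub.TFormSSBoot
import Cfsg.Agent.Lib.Geom.SiegelFull
import Cfsg.Agent.Lib.Geom.OmegaMax
import Cfsg.Agent.Lib.Classical.Preserving

/-!
Symplectic block doubles and one element mixing the two factors generate the whole group `Ω`.
-/

set_option autoImplicit false
set_option linter.unusedSectionVars false
set_option linter.unusedSimpArgs false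
set_option linter.style.haveILetI false

namespace CfsgLib.MaxSub.OmExtra

open scoped MatrixGroups commutatorElement
open Cfsg.Geo Matrix CfsgLib.MaxSub.DecompMax CfsgLib.MaxSub.SymReal CfsgLib.Geom
open CfsgLib.Classical (glLin glLin_apply)
open CfsgLib.MaxSub.SpExtra (spGL_eq J_props)
open CfsgLib.MaxSub.SymEight (bd od dup coe_dup bd_mul_od od_mul_bd bd_mul od_mul)
open QuadraticMap (polar)

variable {F : Type*} [Field F] [Fintype F] {m : ℕ}

/-- The index of the double symplectic space. -/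
abbrev SS (m : ℕ) := (Fin m ⊕ Fin m) ⊕ (Fin m ⊕ Fin m)

/-- The symmetric form `od J (-J)`. -/
def ssMat (m : ℕ) (F : Type*) [Field F] : Matrix ((Fin m ⊕ Fin m) ⊕ (Fin m ⊕ Fin m)) ((Fin m ⊕ Fin m) ⊕ (Fin m ⊕ Fin m)) F :=
  od (Matrix.J (Fin m) F) (-Matrix.J (Fin m) F)

theorem orth_ssMat (h2 : (2 : F) ≠ 0) : Orth (ssMat m F) := by
  obtain ⟨hT, -, -⟩ := J_props (F := F) m h2
  refine ⟨h2, by simp [ssMat, od, Matrix.fromBlocks_transpose, hT], ?_⟩
  have hJJ : Matrix.J (Fin m) F * Matrix.J (Fin m) F = -1 := Matrix.J_squared _ _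
  have e : ssMat m F * ssMat m F = 1 := by
    rw [ssMat, od_mul, Matrix.mul_neg, Matrix.neg_mul, hJJ, neg_neg, CfsgLib.MaxSub.SymEight.bd_one]
  exact IsUnit.of_mul_eq_one _ e

theorem dup_mem_ss {a : GL (Fin m ⊕ Fin m) F} :
    dup a ∈ isomM (ssMat m F) ↔ a ∈ Cfsg.spGL m F := by
  rw [spGL_eq, mem_isomM, mem_isomM, coe_dup, ssMat, bd, od, Matrix.fromBlocks_transpose,
    Matrix.fromBlocks_multiply, Matrix.fromBlocks_multiply, Matrix.fromBlocks_inj]
  simp only [Matrix.transpose_zero, Matrix.mul_zero, Matrix.zero_mul, add_zero, zero_add, Matrix.mul_neg,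
    Matrix.neg_mul, true_and, and_true]
  exact ⟨fun h => h.2.1, fun h => by simp [h]⟩

theorem dup_spGL_le_comSub (hm : 3 ≤ m) {a : GL (Fin m ⊕ Fin m) F} (ha : a ∈ Cfsg.spGL m F) :
    dup a ∈ comSub (ssMat m F) := by
  let f : Matrix.symplecticGroup (Fin m) F →* GL (Fin m ⊕ Fin m) F :=
    (Matrix.symplecticGroup (Fin m) F).subtype.toHomUnits
  have hf : ∀ A : Matrix.symplecticGroup (Fin m) F, ((f A : GL (Fin m ⊕ Fin m) F) : Matrix _ _ F) = A.1 :=
    fun A => rfl
  have hmem : ∀ A, f A ∈ Cfsg.spGL m F := fun A => by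
    rw [spGL_eq, mem_isomM, hf]; exact SymplecticGroup.mem_iff'.1 A.2
  obtain ⟨A, rfl⟩ : ∃ A, f A = a := by
    rw [spGL_eq, mem_isomM] at ha
    exact ⟨⟨_, SymplecticGroup.mem_iff'.2 ha⟩, Units.ext rfl⟩
  have hp := CfsgLib.Classical.commutator_symplecticGroup (F := F) m (Or.inl hm)
  have h : A ∈ commutator (Matrix.symplecticGroup (Fin m) F) := hp ▸ Subgroup.mem_top A
  have h' := Subgroup.mem_map_of_mem (dup.comp f) h
  rw [commutator_def, Subgroup.map_commutator] at h'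
  refine Subgroup.commutator_mono ?_ ?_ h' <;>
    (rintro _ ⟨B, -, rfl⟩; exact dup_mem_ss.2 (hmem B))

theorem dup_mulVec (a : GL (Fin m ⊕ Fin m) F) (x : (Fin m ⊕ Fin m) ⊕ (Fin m ⊕ Fin m) → F) :
    (dup a : Matrix ((Fin m ⊕ Fin m) ⊕ (Fin m ⊕ Fin m)) ((Fin m ⊕ Fin m) ⊕ (Fin m ⊕ Fin m)) F) *ᵥ x =
      Sum.elim ((a : Matrix (Fin m ⊕ Fin m) (Fin m ⊕ Fin m) F) *ᵥ (x ∘ Sum.inl))
        ((a : Matrix (Fin m ⊕ Fin m) (Fin m ⊕ Fin m) F) *ᵥ (x ∘ Sum.inr)) := by
  rw [coe_dup, bd, Matrix.fromBlocks_mulVec]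
  simp

/-- The bilinear form of `J`. -/
noncomputable def jForm (m : ℕ) (F : Type*) [Field F] :
    (Fin m ⊕ Fin m → F) →ₗ[F] (Fin m ⊕ Fin m → F) →ₗ[F] F :=
  Matrix.toLinearMap₂' F (Matrix.J (Fin m) F)

theorem jForm_apply (u v : Fin m ⊕ Fin m → F) : jForm m F u v = form (Matrix.J (Fin m) F) u v := by
  simp [jForm, Matrix.toLinearMap₂'_apply', form]

theorem form_ssMat (u v : (Fin m ⊕ Fin m) ⊕ (Fin m ⊕ Fin m) → F) :
    form (ssMat m F) u v = form (Matrix.J (Fin m) F) (u ∘ Sum.inl) (v ∘ Sum.inr) -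
      form (Matrix.J (Fin m) F) (u ∘ Sum.inr) (v ∘ Sum.inl) := by
  simp [ssMat, form, od, Matrix.fromBlocks_mulVec, dotProduct, Fintype.sum_sum_type, Matrix.neg_mulVec,
    sub_eq_add_neg]

/-- The product map `F² × F^(2m) → F^(4m)`. -/
def ssTau (m : ℕ) (F : Type*) [Field F] :
    (Fin 2 → F) →ₗ[F] (Fin m ⊕ Fin m → F) →ₗ[F] ((Fin m ⊕ Fin m) ⊕ (Fin m ⊕ Fin m) → F) :=
  LinearMap.mk₂ F (fun p v => Sum.elim (p 0 • v) (p 1 • v))
    (fun p q v => funext fun i => by rcases i with i | i <;> simp [add_mul])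
    (fun c p v => funext fun i => by rcases i with i | i <;> simp [mul_assoc])
    (fun p v w => funext fun i => by rcases i with i | i <;> simp [mul_add])
    (fun c p v => funext fun i => by rcases i with i | i <;> simp [mul_left_comm])

theorem ssTau_apply (p : Fin 2 → F) (v : Fin m ⊕ Fin m → F) :
    ssTau m F p v = Sum.elim (p 0 • v) (p 1 • v) := rfl

/-- The determinant form on `F²`. -/
def detForm (F : Type*) [Field F] : (Fin 2 → F) →ₗ[F] (Fin 2 → F) →ₗ[F] F :=
  LinearMap.mk₂ F (fun p q => p 0 * q 1 - p 1 * q 0) (fun p p' q => by simp; ring) (fun c p q => by simp; ring)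
    (fun p q q' => by simp; ring) (fun c p q => by simp; ring)

theorem detForm_apply (p q : Fin 2 → F) : detForm F p q = p 0 * q 1 - p 1 * q 0 := rfl

/-- The system. -/
noncomputable def ssSys (m : ℕ) (F : Type*) [Field F] :
    TForm.Sys F (Fin 2 → F) (Fin m ⊕ Fin m → F) ((Fin m ⊕ Fin m) ⊕ (Fin m ⊕ Fin m) → F) (RingHom.id F) where
  tau := ssTau m F
  fA := detForm F
  fB := jForm m F
  form := Matrix.toLinearMap₂' F (ssMat m F)
  C w := LinearMap.pi ![(jForm m F).flip w ∘ₗ LinearMap.funLeft F F Sum.inl,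
    (jForm m F).flip w ∘ₗ LinearMap.funLeft F F Sum.inr]
  C' p := p 1 • LinearMap.funLeft F F Sum.inl - p 0 • LinearMap.funLeft F F Sum.inr

theorem ssSys_form (u v : (Fin m ⊕ Fin m) ⊕ (Fin m ⊕ Fin m) → F) :
    (ssSys m F).form u v = form (ssMat m F) u v := by
  simp [ssSys, Matrix.toLinearMap₂'_apply', form]

theorem ssSys_C (w : Fin m ⊕ Fin m → F) (x : (Fin m ⊕ Fin m) ⊕ (Fin m ⊕ Fin m) → F) :
    (ssSys m F).C w x = ![form (Matrix.J (Fin m) F) (x ∘ Sum.inl) w, form (Matrix.J (Fin m) F) (x ∘ Sum.inr) w] := by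
  funext i
  fin_cases i <;> simp [ssSys, jForm_apply, LinearMap.funLeft]

theorem ssSys_C' (p : Fin 2 → F) (x : (Fin m ⊕ Fin m) ⊕ (Fin m ⊕ Fin m) → F) :
    (ssSys m F).C' p x = p 1 • (x ∘ Sum.inl) - p 0 • (x ∘ Sum.inr) := by
  simp [ssSys, LinearMap.funLeft]

theorem jForm_swap (h2 : (2 : F) ≠ 0) (u v : Fin m ⊕ Fin m → F) :
    form (Matrix.J (Fin m) F) v u = -form (Matrix.J (Fin m) F) u v := by
  rw [form, form, dotProduct_comm, ← Matrix.vecMul_transpose, ← dotProduct_mulVec, (J_props (F := F) m h2).1,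
    Matrix.neg_mulVec, dotProduct_neg]

theorem jForm_self (h2 : (2 : F) ≠ 0) (u : Fin m ⊕ Fin m → F) : form (Matrix.J (Fin m) F) u u = 0 :=
  (mul_eq_zero.1 (show (2 : F) * form (Matrix.J (Fin m) F) u u = 0 by
    linear_combination jForm_swap h2 u u)).resolve_left h2

theorem ssSys_good (h2 : (2 : F) ≠ 0) : (ssSys m F).Good (-1) where
  invol _ := rfl
  eps := neg_ne_zero.2 one_ne_zero
  hermA x y := by simp [ssSys, detForm_apply]; ring
  skewB x y := by simp only [ssSys, jForm_apply, RingHom.id_apply]; exact jForm_swap h2 x y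
  nondegA x hx := by
    have h0 := hx ![0, 1]
    have h1 := hx ![1, 0]
    simp [ssSys, detForm_apply] at h0 h1
    funext i; fin_cases i <;> simp [h0, h1]
  nondegB x hx := by
    obtain ⟨-, hJu, -⟩ := J_props (F := F) m h2
    obtain ⟨U, hU⟩ := hJu
    funext i
    have h := hx (((U⁻¹ : GL (Fin m ⊕ Fin m) F) : Matrix _ _ F) *ᵥ Pi.single i 1)
    simp only [ssSys, jForm_apply, form, mulVec_mulVec] at h
    rw [← hU, Units.mul_inv, one_mulVec] at h
    simpa using h
  form_tau a b a' b' := by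
    rw [ssSys_form, form_ssMat]
    simp [ssSys, ssTau_apply, jForm_apply, detForm_apply, form, Matrix.mulVec_smul, dotProduct_smul,
      smul_dotProduct]
    ring
  C_tau w a b := by
    rw [ssSys_C]
    funext i
    fin_cases i <;> simp [ssSys, ssTau_apply, jForm_apply, form, smul_dotProduct, mul_comm]
  C'_tau x a b := by
    rw [ssSys_C']
    simp [ssSys, ssTau_apply, detForm_apply]
    module
  span := by
    refine eq_top_iff.2 fun x _ => ?_
    have e : x = ssTau m F ![1, 0] (x ∘ Sum.inl) + ssTau m F ![0, 1] (x ∘ Sum.inr) := by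
      funext i; rcases i with i | i <;> simp [ssTau_apply]
    rw [e]
    exact add_mem (Submodule.subset_span ⟨(_, _), rfl⟩) (Submodule.subset_span ⟨(_, _), rfl⟩)

/-- Symplectic doubles, their centraliser and a mixing element generate `Ω`. -/
theorem full_of_big (h2 : (2 : F) ≠ 0) (hm : 4 ≤ m)
    {M : Subgroup (GL ((Fin m ⊕ Fin m) ⊕ (Fin m ⊕ Fin m)) F)} (hMB : M ≤ isomM (ssMat m F))
    (hdup : ∀ a ∈ Cfsg.spGL m F, dup a ∈ M)
    (hcen : ∀ g ∈ isomM (ssMat m F), (∀ a ∈ Cfsg.spGL m F, Commute g (dup a)) → g ∈ M)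
    {n : GL ((Fin m ⊕ Fin m) ⊕ (Fin m ⊕ Fin m)) F} (hn : n ∈ M) {D : (Fin 2 → F) →ₗ[F] (Fin 2 → F)}
    {E : GL (Fin m ⊕ Fin m) F}
    (hnE : ∀ p v, (n : Matrix (SS m) (SS m) F) *ᵥ ssTau m F (D p) v =
      -((dup E : Matrix (SS m) (SS m) F) *ᵥ ((n : Matrix (SS m) (SS m) F) *ᵥ ssTau m F p v)))
    (hE : ∀ c : F, (E : Matrix (Fin m ⊕ Fin m) (Fin m ⊕ Fin m) F) ≠ c • 1) :
    comSub (ssMat m F) ≤ M := by
  classical
  obtain ⟨Qf, hQ⟩ := exists_quadForm h2 (orth_ssMat (m := m) h2).symm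
  have hsep := sep_of_isUnit (orth_ssMat (m := m) h2).unit hQ
  have hiso := isometryGroup_eq h2 hQ
  obtain ⟨T, hT⟩ : ∃ T, T = ssSys m F := ⟨_, rfl⟩
  have good : T.Good (-1) := hT ▸ ssSys_good h2
  have htau : ∀ p v, T.tau p v = ssTau m F p v := fun p v => by rw [hT]; rfl
  have hQself : ∀ u, (2 : F) * Qf u = form (ssMat m F) u u := fun u => by
    rw [hQ, QuadraticMap.polar_self, nsmul_eq_mul, Nat.cast_ofNat]
  have haltA : ∀ a, T.fA a a = 0 := fun a => by rw [hT]; simp [ssSys, detForm_apply, mul_comm]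
  have haltB : ∀ b, T.fB b b = 0 := fun b => by rw [hT]; simp [ssSys, jForm_apply, jForm_self h2]
  have hqt : ∀ a b, Qf (T.tau a b) = 0 := fun a b => by
    refine (mul_eq_zero.1 ((hQself _).trans ?_)).resolve_left h2
    rw [← ssSys_form, ← hT, good.form_tau, haltA, zero_mul]
  have qadd : ∀ x y, Qf (x + y) = Qf x + Qf y + T.form x y := fun x y => by
    rw [hT, ssSys_form, hQ, polar]; ring
  obtain ⟨H, hH⟩ : ∃ H, H = M.map glLin.toMonoidHom := ⟨_, rfl⟩
  have hIn : ∀ {f : ((Fin m ⊕ Fin m) ⊕ (Fin m ⊕ Fin m) → F) → ((Fin m ⊕ Fin m) ⊕ (Fin m ⊕ Fin m) → F)} (g : GL (SS m) F),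
      g ∈ M → (∀ x, glLin g x = f x) → TForm.InH H f := fun g hg hgx => ⟨glLin g, hH ▸ ⟨g, hg, rfl⟩, hgx⟩
  have hisom : ∀ g : GL (SS m) F, g ∈ isomM (ssMat m F) → ∀ x, Qf ((g : Matrix (SS m) (SS m) F) *ᵥ x) = Qf x := fun g hg x =>
    mul_left_cancel₀ h2 (by rw [hQself, hQself]; exact mem_isomM_form.1 hg x x)
  have D' : TForm.SSData T Qf H :=
    { good := good
      altA := haltA
      altB := haltB
      q_add := qadd
      q_tau := hqt
      isom := by
        rw [hH]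
        rintro _ ⟨g, hg, rfl⟩ x
        show Qf (glLin g x) = Qf x
        rw [glLin_apply]
        exact hisom g (hMB hg) x
      tvA := fun p c => by
        obtain ⟨L, hL⟩ : ∃ L : F → ((Fin m ⊕ Fin m) ⊕ (Fin m ⊕ Fin m) → F) →ₗ[F] _,
            ∀ c x, L c x = x + c • T.tau p (T.C' p x) :=
          ⟨fun c => LinearMap.id + c • (T.tau p ∘ₗ T.C' p), fun c x => rfl⟩
        have hLL : ∀ c x, L c (L (-c) x) = x := fun c x => by
          rw [hL, hL]; simp [good.C'_tau, haltA]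
        obtain ⟨g, hg⟩ := (glLin (F := F)).surjective (LinearEquiv.ofLinearMap (L c) (L (-c))
          (LinearMap.ext (hLL c)) (LinearMap.ext fun x => by simpa using hLL (-c) x))
        have hgx : ∀ x, (g : Matrix (SS m) (SS m) F) *ᵥ x = x + c • T.tau p (T.C' p x) := fun x => by
          rw [← glLin_apply, hg]; exact hL c x
        refine hIn g (hcen g ?_ fun a _ => ?_) fun x => by rw [glLin_apply, hgx]
        · have hq : ∀ x, Qf ((g : Matrix (SS m) (SS m) F) *ᵥ x) = Qf x := fun x => by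
            rw [hgx, qadd, ← map_smul, hqt, good.form_C', map_smul, haltB]
            simp
          rw [mem_isomM_form]
          intro u v
          rw [hQ, hQ, polar, polar, ← Matrix.mulVec_add, hq, hq, hq]
        · refine Units.ext (Matrix.ext_of_mulVec_single fun i => ?_)
          rw [Units.val_mul, Units.val_mul, ← mulVec_mulVec, ← mulVec_mulVec, hgx, hgx, dup_mulVec, dup_mulVec, hT]
          funext j
          rcases j with j | j <;>
            simp [ssSys, ssTau_apply, LinearMap.funLeft, Function.comp_def, Matrix.mulVec_add, Matrix.mulVec_smul,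
              Matrix.mulVec_sub, Matrix.mulVec, dotProduct, mul_sub, sub_mul, mul_add, Finset.mul_sum,
              Finset.sum_add_distrib, Finset.sum_sub_distrib, mul_left_comm]
      tvB := fun z c => by
        obtain ⟨a, ha⟩ := (glLin (F := F)).surjective (LinearEquiv.ofLinearMap (TForm.altTv T.fB c z)
          (TForm.altTv T.fB (-c) z) (LinearMap.ext (TForm.altTv_neg T.fB haltB c z))
          (LinearMap.ext (TForm.altTv_neg' T.fB haltB c z)))
        have hax : ∀ v, (a : Matrix (Fin m ⊕ Fin m) (Fin m ⊕ Fin m) F) *ᵥ v = v + (c * T.fB v z) • z := fun v => by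
          rw [← glLin_apply, ha]; exact TForm.altTv_apply T.fB c z v
        refine hIn (dup a) (hdup a ?_) fun x => ?_
        · rw [spGL_eq, mem_isomM_form]
          intro u v
          have := TForm.altTv_isom T.fB haltB c z u v
          rw [TForm.altTv_apply, TForm.altTv_apply, ← hax, ← hax] at this
          simpa [hT, ssSys, jForm_apply] using this
        · rw [glLin_apply, dup_mulVec, hax, hax, hT, ssSys_C]
          funext j
          rcases j with j | j <;> simp [ssSys, ssTau_apply, jForm_apply, mul_assoc]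
      dimA := by simp
      dimB := by simp; omega
      lt := by simp; omega
      big := fun _ => ⟨-1, neg_ne_zero.2 one_ne_zero, fun h => h2 (by linear_combination -h)⟩ }
  have hroot : ¬ TForm.NoRoot T H := by
    intro hno
    obtain ⟨Mf, hf, hab⟩ := D'.kron_all hno (h := glLin n) (hH ▸ ⟨n, hn, rfl⟩)
    have hab' : ∀ a b, (n : Matrix (SS m) (SS m) F) *ᵥ ssTau m F a b = ssTau m F (Mf a) (hf b) := fun a b => by
      rw [← htau, ← htau, ← glLin_apply]; exact hab a b
    have hninj : ∀ x, (n : Matrix (SS m) (SS m) F) *ᵥ x = 0 → x = 0 := fun x hx =>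
      (glLin n).injective (by rw [map_zero, glLin_apply]; exact hx)
    obtain ⟨b₀, hb₀⟩ : ∃ b : Fin m ⊕ Fin m → F, b ≠ 0 := ⟨Pi.single (Sum.inl ⟨0, by omega⟩) 1, fun e0 => by
      simpa using congrFun e0 (Sum.inl ⟨0, by omega⟩)⟩
    have hp0 : (![1, 0] : Fin 2 → F) ≠ 0 := fun e0 => by simpa using congrFun e0 0
    have hinj : Function.Injective hf := by
      refine (injective_iff_map_eq_zero hf).2 fun b hb => ?_
      refine good.tau_right_inj hp0 ?_
      show T.tau ![1, 0] b = T.tau ![1, 0] 0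
      rw [map_zero, htau]
      refine hninj _ ?_
      rw [hab', hb, map_zero]
    have hsurj := LinearMap.injective_iff_surjective.1 hinj
    have hMf : Mf ![1, 0] ≠ 0 := fun h0 => hb₀ (good.tau_right_inj hp0 (show T.tau ![1, 0] b₀ = T.tau ![1, 0] 0 by
      rw [map_zero, htau]
      exact hninj _ (by rw [hab', h0, map_zero, LinearMap.zero_apply])))
    obtain ⟨x, hx⟩ : ∃ x, T.fA (Mf ![1, 0]) x = 1 := by
      obtain ⟨y, hy⟩ : ∃ y, T.fA (Mf ![1, 0]) y ≠ 0 := by
        by_contra h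
        simp only [not_exists, not_not] at h
        exact hMf (good.nondegA _ h)
      exact ⟨(T.fA (Mf ![1, 0]) y)⁻¹ • y, by rw [map_smul, smul_eq_mul, inv_mul_cancel₀ hy]⟩
    refine hE (-(T.fA (Mf (D ![1, 0])) x)) (Matrix.ext_of_mulVec_single fun i => ?_)
    obtain ⟨b, hb⟩ := hsurj (Pi.single i 1)
    have hdt : ∀ a v, (dup E : Matrix (SS m) (SS m) F) *ᵥ ssTau m F a v =
        ssTau m F a ((E : Matrix (Fin m ⊕ Fin m) (Fin m ⊕ Fin m) F) *ᵥ v) := fun a v => by
      rw [dup_mulVec, ssTau_apply, ssTau_apply, Sum.elim_comp_inl, Sum.elim_comp_inr, Matrix.mulVec_smul,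
        Matrix.mulVec_smul]
    have h := hnE ![1, 0] b
    rw [hab', hab', hb, hdt] at h
    have h' := congrArg (T.C' x) h
    rw [map_neg, ← htau, ← htau, good.C'_tau, good.C'_tau, hx, one_smul] at h'
    rw [Matrix.smul_mulVec, one_mulVec, neg_smul, h', neg_neg]
  have h5 : 5 ≤ Module.finrank F ((Fin m ⊕ Fin m) ⊕ (Fin m ⊕ Fin m) → F) := by simp; omega
  rw [← omegaGL_eq h2 hQ, omegaGL_eq_map Qf]
  have hfull : ∀ a b, a ≠ 0 → b ≠ 0 → OrthSub.Full (M.comap (isomsToGL Qf)) (T.tau a b) := by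
    intro a b ha hb w hw
    have hw' : T.form (T.tau a b) w = 0 := by rw [hT, ssSys_form, hQ, ← hT]; exact hw
    obtain ⟨g', hg', hgx⟩ := D'.full_pure hroot ha hb w hw'
    rw [hH] at hg'
    obtain ⟨g, hg, rfl⟩ := hg'
    show isomsToGL Qf _ ∈ M
    suffices h : isomsToGL Qf (CfsgLib.Classical.siegel Qf (T.tau a b) w) = g by rw [h]; exact hg
    refine glLin.injective (LinearEquiv.ext fun x => ?_)
    rw [glLin_apply, isomsToGL_mulVec, CfsgLib.Classical.siegel_apply Qf (hqt _ _) hw]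
    refine Eq.trans ?_ (hgx x).symm
    simp only [TForm.sgMap, hT, ssSys_form, hQ]
  have e0 : (![1, 0] : Fin 2 → F) ≠ 0 := fun e0 => by simpa using congrFun e0 0
  obtain ⟨b, hb⟩ : ∃ b : Fin m ⊕ Fin m → F, b ≠ 0 := ⟨Pi.single (Sum.inl ⟨0, by omega⟩) 1, fun e0 => by
    simpa using congrFun e0 (Sum.inl ⟨0, by omega⟩)⟩
  obtain ⟨b', hb'⟩ : ∃ b', T.fB b b' ≠ 0 := by
    by_contra h
    simp only [not_exists, not_not] at h
    exact hb (good.nondegB b h)
  obtain ⟨a', ha'⟩ : ∃ a', T.fA ![1, 0] a' ≠ 0 := by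
    by_contra h
    simp only [not_exists, not_not] at h
    exact e0 (good.nondegA _ h)
  have hne : polar Qf (T.tau ![1, 0] b) (T.tau a' b') ≠ 0 := by
    rw [← hQ, ← ssSys_form, ← hT, good.form_tau]
    exact mul_ne_zero ha' hb'
  have hle := OrthSub.commutator_le_of_pair hsep h5 (hfull _ b e0 hb)
    (hfull a' b' (fun e => ha' (by simp [e])) (fun e => hb' (by simp [e]))) (hqt _ _) (hqt _ _) hne
  rintro _ ⟨g, hg, rfl⟩
  exact hle hg

end CfsgLib.MaxSub.OmExtra
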