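import Cfsg.Agent.Lib.MaxSub.OmExtra.Kernel
import Cfsg.Agent.Lib.MaxSub.OmExtra.Full

/-!
An overgroup of the normaliser of a real frame of orthogonal isometries in `Ω` either meets the centraliser of each
quaternion pair of the frame in the normaliser or is the whole of `Ω`.
-/

set_option autoImplicit false
set_option linter.unusedSectionVars false
set_option linter.unusedSimpArgs false
set_option linter.style.haveILetI false

namespace CfsgLib.MaxSub.OmExtra

open scoped MatrixGroups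
open Cfsg.Geo Matrix CfsgLib.MaxSub.DecompMax CfsgLib.MaxSub.SymReal
open CfsgLib.MaxSub.SymEight (bd od cA coe_coordGL cA_mulVec dup coe_dup dup_injective mem_normalizer_of_conj conj_mem)

variable {ι : Type} [Fintype ι] [DecidableEq ι] {F : Type*} [Field F] [Fintype F]

theorem map_mem_iff {κ : Type} [Fintype κ] [DecidableEq κ] (Φ : (ι → F) ≃ₗ[F] (κ → F)) {H : Subgroup (GL ι F)}
    {g : GL ι F} : coordGL Φ g ∈ H.map (coordGL Φ).toMonoidHom ↔ g ∈ H :=
  Subgroup.mem_map_iff_mem (f := (coordGL Φ).toMonoidHom) (coordGL Φ).injective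

/-- Block doubles commute with block scalar matrices. -/
theorem commute_dup_scalar {κ : Type} [Fintype κ] [DecidableEq κ] {t : GL (κ ⊕ κ) F} {a b c e : F}
    (ht : (t : Matrix (κ ⊕ κ) (κ ⊕ κ) F) = Matrix.fromBlocks (a • 1) (b • 1) (c • 1) (e • 1)) (g : GL κ F) :
    Commute t (dup g) := by
  refine Units.ext ?_
  rw [Units.val_mul, Units.val_mul, ht, coe_dup, bd, Matrix.fromBlocks_multiply, Matrix.fromBlocks_multiply]
  simp

variable {R M : Subgroup (GL ι F)} {B : Matrix ι ι F} {k : ℕ}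

/-- Either the centraliser of a quaternion pair lies in the normaliser, or the group is `Ω`. -/
theorem mem_normalizer_or_eq (hp : (Fintype.card F).Prime) (hex : ¬ Fintype.card F = 2) (hR : RFrame R)
    (hB : Orth B) (hle : R ≤ isomM B) (hk : Fintype.card ι = 2 ^ k) (hk4 : 4 ≤ k)
    (hNM : subgroupNormalizer R ⊓ comSub B ≤ M) (hMG : M ≤ comSub B) {d d' : GL ι F} (hd : d ∈ R) (hd' : d' ∈ R)
    (hdd : d * d = -1) (hd'd' : d' * d' = -1) (hdd' : Anti d d') :
    (∀ g ∈ M, Commute g d → Commute g d' → g ∈ subgroupNormalizer R) ∧ ¬ comSub B ≤ subgroupNormalizer R ∨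
      comSub B ≤ M := by
  classical
  have h2 := hR.two
  haveI : Finite (GL ι F) := Finite.of_injective (fun g => (g : Matrix ι ι F)) fun _ _ => Units.ext
  obtain ⟨m, Φ, R', α, β, hm, hR', hR'S, hnb, hG, hαβ, hdm, hd'm, hR'm, hdup, hdec⟩ :=
    exists_split hR hB hle hk (by omega) hd hd' hdd hd'd' hdd'
  have hm8 : 8 ≤ 2 * m := by
    rw [hm]; exact (show (8 : ℕ) = 2 ^ 3 by norm_num) ▸ Nat.pow_le_pow_right (by norm_num) (by omega)
  haveI : Finite (GL (Fin m ⊕ Fin m) F) :=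
    Finite.of_injective (fun g => (g : Matrix (Fin m ⊕ Fin m) (Fin m ⊕ Fin m) F)) fun _ _ => Units.ext
  have hG' : (isomM B).map (coordGL Φ).toMonoidHom = isomM (ssMat m F) := hG
  have hcom := comSub_map Φ hG'
  have hdc : ∀ g, Commute (coordGL Φ d) (dup g) := fun g =>
    commute_dup_scalar (by rw [coe_coordGL, hdm]) g
  have hd'c : ∀ g, Commute (coordGL Φ d') (dup g) := fun g =>
    commute_dup_scalar (by rw [coe_coordGL, hd'm]) g
  -- doubles of the normaliser
  have hdn : ∀ a ∈ subgroupNormalizer R', dup a ∈ subgroupNormalizer (R.map (coordGL Φ).toMonoidHom) := by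
    intro a ha
    refine mem_normalizer_of_conj ?_
    rintro _ ⟨y, hy, rfl⟩
    obtain ⟨q, hq, b, hb, -, e, hq4⟩ := hdec y hy
    have hqc : Commute (coordGL Φ q) (dup a) := by
      rcases hq4 with rfl | rfl | rfl | rfl
      · rw [map_one]; exact Commute.one_left _
      · exact hdc a
      · exact hd'c a
      · rw [map_mul]; exact (hdc a).mul_left (hd'c a)
    have he : dup a * coordGL Φ y * (dup a)⁻¹ = coordGL Φ q * dup (a * b * a⁻¹) := by
      rw [e, ← mul_assoc (dup a), ← hqc.eq, map_mul dup, map_mul dup, map_inv]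
      group
    rw [MulEquiv.coe_toMonoidHom, he]
    exact mul_mem (Subgroup.mem_map_of_mem _ hq) ((hR'm _).1 (conj_mem ha hb))
  have hmax := CfsgLib.MaxSub.SpExtra.maximal hp hex (show 3 ≤ k - 1 by omega) m R' hm hR' hR'S hnb
  obtain ⟨C, hC⟩ : ∃ C, C = (M.map (coordGL Φ).toMonoidHom).comap dup ⊓ Cfsg.spGL m F := ⟨_, rfl⟩
  have hlow : subgroupNormalizer R' ⊓ Cfsg.spGL m F ≤ C := by
    intro a ha
    rw [hC]
    refine ⟨?_, ha.2⟩
    obtain ⟨g, hg⟩ := (coordGL Φ).surjective (dup a)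
    show dup a ∈ M.map (coordGL Φ).toMonoidHom
    rw [← hg, map_mem_iff]
    refine hNM ⟨(mem_normalizer_map Φ).1 (hg ▸ hdn a ha.1), (map_mem_iff Φ).1 ?_⟩
    rw [hcom, hg]
    exact dup_spGL_le_comSub (by omega) ha.2
  rcases hmax.2 C hlow (hC ▸ inf_le_right) with hCeq | hCeq
  · refine Or.inl ⟨fun g hg hgd hgd' => ?_, fun hall => ?_⟩
    · obtain ⟨a, ha⟩ := hdup g hgd hgd'
      have haM : dup a ∈ M.map (coordGL Φ).toMonoidHom := ha ▸ Subgroup.mem_map_of_mem _ hg
      have haS : a ∈ Cfsg.spGL m F := dup_mem_ss.1 (comSub_le _ (hcom ▸ Subgroup.map_mono hMG haM))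
      have haC : a ∈ C := hC ▸ ⟨haM, haS⟩
      rw [hCeq] at haC
      exact (mem_normalizer_map Φ).1 (ha ▸ hdn a haC.1)
    · refine hmax.1.ne (le_antisymm hmax.1.le fun a ha => ?_)
      obtain ⟨g, hg⟩ := (coordGL Φ).surjective (dup a)
      have hgC : g ∈ comSub B := (map_mem_iff Φ).1 (by rw [hcom, hg]; exact dup_spGL_le_comSub (by omega) ha)
      rw [← hCeq, hC]
      refine ⟨?_, ha⟩
      show dup a ∈ M.map (coordGL Φ).toMonoidHom
      rw [← hg, map_mem_iff]
      exact hNM ⟨hall hgC, hgC⟩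
  refine Or.inr ?_
  have hSp : ∀ a ∈ Cfsg.spGL m F, dup a ∈ M.map (coordGL Φ).toMonoidHom := fun a ha => by
    rw [← hCeq, hC] at ha; exact ha.1
  -- a second quaternion pair
  have hcard := card_cen hR hB hle hk (by omega) (s := [d, d']) (by simp [hd, hd'])
  have hp4 : 2 ^ (k + 1) * 4 ≤ 2 ^ (2 * k + 1) := by
    rw [show (4 : ℕ) = 2 ^ 2 by norm_num, ← pow_add]; exact Nat.pow_le_pow_right (by norm_num) (by omega)
  simp only [List.length_cons, List.length_nil] at hcard
  obtain ⟨e, he, e', he', hee, he'e', hee'⟩ := exists_minus_pair hR hB hle hk (by omega) hd hd' hdd hd'd' hdd'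
    (S := cen R [d, d']) (fun w hw => (mem_cen.1 hw).1)
    (fun w hw => ⟨(mem_cen.1 hw).2 d (by simp), (mem_cen.1 hw).2 d' (by simp)⟩) (by omega)
  obtain ⟨heR, hec⟩ := mem_cen.1 he
  obtain ⟨he'R, he'c⟩ := mem_cen.1 he'
  have hed : Commute e d := hec d (by simp)
  have hed' : Commute e d' := hec d' (by simp)
  have he'd : Commute e' d := he'c d (by simp)
  have he'd' : Commute e' d' := he'c d' (by simp)
  obtain ⟨x, hx⟩ : ∃ x, x = d * e := ⟨_, rfl⟩
  obtain ⟨q, hq⟩ : ∃ q, q = d' * e' := ⟨_, rfl⟩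
  have hxR : x ∈ R := hx ▸ R.mul_mem hd heR
  have hqR : q ∈ R := hq ▸ R.mul_mem hd' he'R
  have hxx : x * x = 1 := by rw [hx, sq_mul_comm hed.symm, hdd, hee, neg_mul_neg, one_mul]
  have hqq : q * q = 1 := by rw [hq, sq_mul_comm he'd'.symm, hd'd', he'e', neg_mul_neg, one_mul]
  have hd'x : Anti d' x := hx ▸ hdd'.symm.mul_comm_right hed'.symm
  have hxs : Sing R x := ⟨hxR, hxx, (hR.anti_ne hd'x).1, (hR.anti_ne hd'x).2⟩
  have hc : Commute x q := by
    have a1 : Anti x d' := hd'x.symm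
    have a2 : Anti x e' := hx ▸ Anti.comm_mul_left he'd.symm hee'
    rw [hq]; exact a1.mul_anti_right a2
  obtain ⟨n, hn⟩ : ∃ n, n = ctrl x q := ⟨_, rfl⟩
  have hnM : n ∈ M := hn ▸ hNM ⟨hR.ctrl_mem_normalizer hxR hqR hxx hc, ctrl_mem_comSub hR hB hle hk hk4 hxs hqR hc⟩
  have n1 : n * d * n⁻¹ = -e := by
    rw [hn, ctrl_conj_B h2 hxx hc (hx ▸ (Commute.refl d).mul_right hed.symm)
      (hq ▸ hdd'.mul_comm_right he'd.symm), hx, ← mul_assoc, hdd, neg_mul, one_mul]
  have n2 : n * d' * n⁻¹ = -e' := by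
    rw [hn, (ctrl_conj_C h2 hxx hc hd'x (hq ▸ (Commute.refl d').mul_right he'd'.symm)).1 hqq, hq, ← mul_assoc,
      hd'd', neg_mul, one_mul]
  obtain ⟨E, hE⟩ := hdup e hed hed'
  obtain ⟨E', hE'⟩ := hdup e' he'd he'd'
  have hES : E ∈ Cfsg.spGL m F := hR'S ((hR'm E).2 (hE ▸ Subgroup.mem_map_of_mem _ heR))
  have hE'S : E' ∈ Cfsg.spGL m F := hR'S ((hR'm E').2 (hE' ▸ Subgroup.mem_map_of_mem _ he'R))
  let D : (Fin 2 → F) →ₗ[F] (Fin 2 → F) :=
    { toFun := fun p => ![-α * p 0 + -β * p 1, -β * p 0 + α * p 1]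
      map_add' := fun p q => by funext i; fin_cases i <;> simp <;> ring
      map_smul' := fun c p => by funext i; fin_cases i <;> simp <;> ring }
  have hfull := full_of_big h2 (show 4 ≤ m by omega) (M := M.map (coordGL Φ).toMonoidHom)
    (hG' ▸ Subgroup.map_mono (hMG.trans (comSub_le B))) hSp ?_ (n := coordGL Φ n) (Subgroup.mem_map_of_mem _ hnM)
    (D := D) (E := E) ?_ ?_
  · intro g hg
    have h := hfull (hcom ▸ Subgroup.mem_map_of_mem (coordGL Φ).toMonoidHom hg)
    exact (map_mem_iff Φ).1 h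
  · intro g hg hgc
    obtain ⟨g, rfl⟩ := (coordGL Φ).surjective g
    rw [map_mem_iff]
    have hge : Commute g e := (commute_coordGL Φ).1 (hE ▸ hgc E hES)
    have hge' : Commute g e' := (commute_coordGL Φ).1 (hE' ▸ hgc E' hE'S)
    have k1 : Commute (n⁻¹ * g * n) d := (Commute.conj_iff n).1 (by
      rw [n1, show n * (n⁻¹ * g * n) * n⁻¹ = g by group]; exact hge.neg_right)
    have k2 : Commute (n⁻¹ * g * n) d' := (Commute.conj_iff n).1 (by
      rw [n2, show n * (n⁻¹ * g * n) * n⁻¹ = g by group]; exact hge'.neg_right)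
    obtain ⟨a, ha⟩ := hdup _ k1 k2
    rw [← hG', map_mem_iff] at hg
    have hnB := comSub_le _ (hMG hnM)
    have haI : dup a ∈ isomM (ssMat m F) := by
      rw [← ha, ← hG', map_mem_iff]; exact mul_mem (mul_mem (inv_mem hnB) hg) hnB
    have hin := hSp a (dup_mem_ss.1 haI)
    rw [← ha, map_mem_iff] at hin
    have := mul_mem (mul_mem hnM hin) (inv_mem hnM)
    rwa [show n * (n⁻¹ * g * n) * n⁻¹ = g by group] at this
  · intro p v
    have hD : ssTau m F (D p) v = (coordGL Φ d : Matrix (SS m) (SS m) F) *ᵥ ssTau m F p v := by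
      rw [coe_coordGL, hdm, Matrix.fromBlocks_mulVec]
      funext i
      rcases i with i | i <;> simp [D, ssTau_apply, Matrix.smul_mulVec, Matrix.neg_mulVec] <;> ring
    rw [hD, ← hE, mulVec_mulVec, mulVec_mulVec, ← Units.val_mul, ← Units.val_mul, ← Matrix.neg_mulVec, ← Units.val_neg]
    have hnd : n * d = -(e * n) := by rw [← neg_mul, ← n1, inv_mul_cancel_right]
    rw [← map_mul, hnd, coordGL_neg, map_mul]
  · intro c hc'
    refine hR.not_anti ((commute_coordGL Φ).1 ?_) hee'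
    refine Units.ext ?_
    rw [hE, hE', Units.val_mul, Units.val_mul, coe_dup, coe_dup, hc', bd, bd, Matrix.fromBlocks_multiply,
      Matrix.fromBlocks_multiply]
    simp

end CfsgLib.MaxSub.OmExtra
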