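import Cfsg.Agent.Lib.MaxSub.OmExtra.Split
import Mathlib.GroupTheory.Transfer
import Mathlib.GroupTheory.FixedPointFree
import Mathlib.GroupTheory.Nilpotent

/-!
A group containing a real frame of orthogonal isometries, invariant under its normaliser, in which every element
commuting with a quaternion pair of the frame lies in the frame, is the frame.
-/

set_option autoImplicit false
set_option linter.unusedSectionVars false
set_option linter.unusedSimpArgs false
set_option linter.style.haveILetI false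

namespace CfsgLib.MaxSub.OmExtra

open scoped MatrixGroups
open Cfsg.Geo Matrix CfsgLib.MaxSub.DecompMax CfsgLib.MaxSub.SymReal
open CfsgLib.MaxSub.SymEight (mem_normalizer_of_conj conj_mem)

theorem fix_bot {G : Type*} [Group G] [Finite G] (S : Subgroup G) (u v : G) (hu : u * u = 1) (hv : v * v = 1)
    (nu : ∀ x ∈ S, u * x * u ∈ S) (nv : ∀ x ∈ S, v * x * v ∈ S) (fu : ∀ x ∈ S, Commute x u → x = 1)
    (fv : ∀ x ∈ S, Commute x v → x = 1) (fw : ∀ x ∈ S, Commute x (u * v) → x = 1) : ∀ x ∈ S, x = 1 := by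
  have inv : ∀ w : G, w * w = 1 → (∀ x ∈ S, w * x * w ∈ S) → (∀ x ∈ S, Commute x w → x = 1) →
      ∀ x ∈ S, w * x * w = x⁻¹ := by
    intro w hw nw fw x hx
    let φ : S →* S :=
      { toFun := fun y => ⟨w * y * w, nw y y.2⟩
        map_one' := Subtype.ext (by simp [hw])
        map_mul' := fun y z => Subtype.ext (by
          show w * ((y : G) * z) * w = w * y * w * (w * z * w)
          rw [show w * (y : G) * w * (w * z * w) = w * y * (w * w) * z * w by group, hw]; group) }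
    have hfpf : MonoidHom.FixedPointFree (φ : S → S) := fun y hy => Subtype.ext (fw y y.2 (by
      have h : w * (y : G) * w = y := congrArg Subtype.val hy
      show (y : G) * w = w * y
      nth_rewrite 1 [← h]
      rw [mul_assoc, hw, mul_one]))
    have hinv : Function.Involutive φ := fun y => Subtype.ext (by
      show w * (w * (y : G) * w) * w = y
      rw [show w * (w * (y : G) * w) * w = (w * w) * y * (w * w) by group, hw, one_mul, mul_one])
    exact congrArg Subtype.val (congrFun (hfpf.coe_eq_inv_of_involutive hinv) ⟨x, hx⟩)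
  intro x hx
  refine fw x hx ?_
  have e1 := inv u hu nu fu x hx
  have e2 := inv v hv nv fv x⁻¹ (S.inv_mem hx)
  rw [inv_inv] at e2
  show x * (u * v) = u * v * x
  conv_rhs => rw [← e2, show u * v * (v * x⁻¹ * v) = u * (v * v) * x⁻¹ * v by group, hv, mul_one, ← e1,
    show u * (u * x * u) * v = (u * u) * (x * (u * v)) by group, hu, one_mul]

variable {κ : Type} [Fintype κ] [DecidableEq κ] {F : Type*} [Field F] [Fintype F]

local notation "Mκ" => Matrix κ κ F

/-- The rotation of a quaternion pair. -/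
theorem exists_rot {R : Subgroup (GL κ F)} (hR : RFrame R) {B : Mκ} (hle : R ≤ isomM B) {d d' : GL κ F}
    (hd : d ∈ R) (hd' : d' ∈ R) (hdd : d * d = -1) (hd'd' : d' * d' = -1) (hdd' : Anti d d') :
    ∃ h : GL κ F, h ∈ subgroupNormalizer R ∧ h ∈ isomM B ∧ h * d * h⁻¹ = d' ∧ h * d' * h⁻¹ = d * d' ∧
      h * (d * d') * h⁻¹ = d ∧ ∀ y, Commute y d → Commute y d' → Commute y h := by
  obtain ⟨a, ha⟩ : ∃ a : Mκ, a = (d : Mκ) := ⟨_, rfl⟩
  obtain ⟨b, hb⟩ : ∃ b : Mκ, b = (d' : Mκ) := ⟨_, rfl⟩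
  have m1 : a * a = -1 := by rw [ha, ← Units.val_mul, hdd, Units.val_neg, Units.val_one]
  have m2 : b * b = -1 := by rw [hb, ← Units.val_mul, hd'd', Units.val_neg, Units.val_one]
  have m3 : b * a = -(a * b) := by
    rw [ha, hb, ← Units.val_mul, hdd'.symm, Units.val_neg, Units.val_mul]
  have r1 : ∀ X : Mκ, a * (a * X) = -X := fun X => by rw [← mul_assoc, m1, neg_one_mul]
  have r2 : ∀ X : Mκ, b * (b * X) = -X := fun X => by rw [← mul_assoc, m2, neg_one_mul]
  have r3 : ∀ X : Mκ, b * (a * X) = -(a * (b * X)) := fun X => by rw [← mul_assoc, m3, neg_mul, mul_assoc]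
  have q4 : (4 : F) ≠ 0 := by rw [show (4 : F) = 2 * 2 by norm_num]; exact mul_ne_zero hR.two hR.two
  have p1 : ((2 : F)⁻¹ • (1 + a + b + a * b)) * ((2 : F)⁻¹ • (1 - a - b - a * b)) = 1 := by
    rw [smul_mul_smul_comm]
    simp only [add_mul, mul_add, sub_mul, mul_sub, one_mul, mul_one, mul_assoc, m1, m2, m3, r1, r2, r3, mul_neg,
      neg_neg]
    match_scalars <;> field_simp <;> ring_nf <;> simp [inv_mul_cancel₀ q4, q4]
  have p2 : ((2 : F)⁻¹ • (1 - a - b - a * b)) * ((2 : F)⁻¹ • (1 + a + b + a * b)) = 1 := by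
    rw [smul_mul_smul_comm]
    simp only [add_mul, mul_add, sub_mul, mul_sub, one_mul, mul_one, mul_assoc, m1, m2, m3, r1, r2, r3, mul_neg,
      neg_neg]
    match_scalars <;> field_simp <;> ring_nf <;> simp [inv_mul_cancel₀ q4, q4]
  obtain ⟨h, hh, hhi⟩ : ∃ h : GL κ F, (h : Mκ) = (2 : F)⁻¹ • (1 + a + b + a * b) ∧
      ((h⁻¹ : GL κ F) : Mκ) = (2 : F)⁻¹ • (1 - a - b - a * b) := ⟨⟨_, _, p1, p2⟩, rfl, rfl⟩
  have c1 : h * d * h⁻¹ = d' := by
    rw [mul_inv_eq_iff_eq_mul]
    refine Units.ext ?_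
    rw [Units.val_mul, Units.val_mul, hh, ← ha, ← hb, smul_mul_assoc, mul_smul_comm]
    congr 1
    simp only [add_mul, mul_add, one_mul, mul_one, mul_assoc, m1, m2, m3, r1, r2, r3, mul_neg, neg_neg]
    abel
  have c2 : h * d' * h⁻¹ = d * d' := by
    rw [mul_inv_eq_iff_eq_mul]
    refine Units.ext ?_
    rw [Units.val_mul, Units.val_mul, Units.val_mul, hh, ← ha, ← hb, smul_mul_assoc, mul_smul_comm]
    congr 1
    simp only [add_mul, mul_add, one_mul, mul_one, mul_assoc, m1, m2, m3, r1, r2, r3, mul_neg, neg_neg]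
    abel
  have c3 : h * (d * d') * h⁻¹ = d := by
    rw [show h * (d * d') * h⁻¹ = h * d * h⁻¹ * (h * d' * h⁻¹) by group, c1, c2, ← mul_assoc, hdd'.symm,
      neg_mul, mul_assoc, hd'd', mul_neg, neg_neg, mul_one]
  have cy : ∀ y, Commute y d → Commute y d' → Commute y h := fun y hy hy' => Units.ext (by
    have e1 : (y : Mκ) * a = a * (y : Mκ) := ha ▸ congrArg Units.val hy.eq
    have e2 : (y : Mκ) * b = b * (y : Mκ) := hb ▸ congrArg Units.val hy'.eq
    rw [Units.val_mul, Units.val_mul, hh, mul_smul_comm, smul_mul_assoc]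
    congr 1
    simp only [add_mul, mul_add, one_mul, mul_one, ← mul_assoc, e1]
    rw [mul_assoc a (y : Mκ) b, e2, ← mul_assoc])
  refine ⟨h, mem_normalizer_of_conj fun e he => ?_, ?_, c1, c2, c3, cy⟩
  · obtain ⟨q, hq, hqd, hqd', hqh⟩ : ∃ q ∈ R, Commute (q⁻¹ * e) d ∧ Commute (q⁻¹ * e) d' ∧ h * q * h⁻¹ ∈ R := by
      rcases hR.comm e he d hd with u | u <;> rcases hR.comm e he d' hd' with u' | u'
      · exact ⟨1, R.one_mem, by simpa using u, by simpa using u', by simpa using R.one_mem⟩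
      · exact ⟨d, hd, (Commute.refl d).inv_left.mul_left u, hdd'.inv_left.mul_anti_left u', c1 ▸ hd'⟩
      · exact ⟨d', hd', hdd'.symm.inv_left.mul_anti_left u, (Commute.refl d').inv_left.mul_left u',
          c2 ▸ R.mul_mem hd hd'⟩
      · exact ⟨d * d', R.mul_mem hd hd', (Anti.comm_mul_left (Commute.refl d) hdd'.symm).inv_left.mul_anti_left u,
          (hdd'.mul_comm_left (Commute.refl d')).inv_left.mul_anti_left u', by rw [c3]; exact hd⟩
    have e' : h * e * h⁻¹ = h * q * h⁻¹ * (q⁻¹ * e) := by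
      rw [show h * e * h⁻¹ = h * q * h⁻¹ * (h * (q⁻¹ * e) * h⁻¹) by group, (cy _ hqd hqd').symm.eq,
        mul_inv_cancel_right]
    rw [e']
    exact R.mul_mem hqh (R.mul_mem (R.inv_mem hq) he)
  · have t1 : (d : Mκ)ᵀ * B = -(B * (d : Mκ)) := by
      rw [transpose_mul_of_isom (hle hd), inv_eq_of_mul_eq_one_right (a := d) (b := -d) (by rw [mul_neg, hdd, neg_neg]),
        Units.val_neg, Matrix.mul_neg]
    have t2 : (d' : Mκ)ᵀ * B = -(B * (d' : Mκ)) := by
      rw [transpose_mul_of_isom (hle hd'), inv_eq_of_mul_eq_one_right (a := d') (b := -d')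
        (by rw [mul_neg, hd'd', neg_neg]), Units.val_neg, Matrix.mul_neg]
    rw [← ha] at t1
    rw [← hb] at t2
    have t3 : (a * b)ᵀ * B = -(B * (a * b)) := by
      rw [transpose_mul, Matrix.mul_assoc, t1, Matrix.mul_neg, ← Matrix.mul_assoc, t2, Matrix.neg_mul, neg_neg,
        Matrix.mul_assoc, m3, Matrix.mul_neg]
    rw [mem_isomM]
    have t4 : (h : Mκ)ᵀ * B = B * ((h⁻¹ : GL κ F) : Mκ) := by
      rw [hh, hhi, transpose_smul, transpose_add, transpose_add, transpose_add, transpose_one, Matrix.smul_mul,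
        Matrix.mul_smul, add_mul, add_mul, add_mul, Matrix.one_mul, t1, t2, t3, mul_sub, mul_sub, mul_sub,
        Matrix.mul_one]
      congr 1
      abel
    rw [t4, Matrix.mul_assoc, ← Units.val_mul, inv_mul_cancel, Units.val_one, Matrix.mul_one]

section kernel

variable {R : Subgroup (GL κ F)} {B : Matrix κ κ F} {k : ℕ}

/-- The elements of the frame commuting with the given ones. -/
def cen (R : Subgroup (GL κ F)) (s : List (GL κ F)) : Subgroup (GL κ F) :=
  s.foldr (fun c S => ec S c) R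

theorem mem_cen {s : List (GL κ F)} {y : GL κ F} : y ∈ cen R s ↔ y ∈ R ∧ ∀ c ∈ s, Commute y c := by
  induction s with
  | nil => simp [cen]
  | cons a s ih =>
    rw [show cen R (a :: s) = ec (cen R s) a from rfl, mem_ec, ih]
    simp only [List.mem_cons, forall_eq_or_imp]
    tauto

variable (hR : RFrame R) (hB : Orth B) (hle : R ≤ isomM B) (hk : Fintype.card κ = 2 ^ k) (hk3 : 3 ≤ k)
include hR hB hle hk hk3

theorem card_cen {s : List (GL κ F)} (hs : ∀ c ∈ s, c ∈ R) : 2 ^ (2 * k + 1) ≤ 2 ^ s.length * Nat.card (cen R s) := by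
  induction s with
  | nil => rw [show cen R ([] : List (GL κ F)) = R from rfl, hR.card_pow hk]; simp
  | cons a s ih =>
    refine (ih fun c hc => hs c (List.mem_cons_of_mem _ hc)).trans ?_
    rw [List.length_cons, pow_succ, mul_assoc]
    exact Nat.mul_le_mul le_rfl (card_ec fun r hr => hR.comm r (mem_cen.1 hr).1 a (hs a (List.mem_cons_self ..)))

/-- An element of square `-1` in a large part of the centraliser of a quaternion pair. -/
theorem exists_minus {d d' : GL κ F} (hd : d ∈ R) (hd' : d' ∈ R) (hdd : d * d = -1) (hd'd' : d' * d' = -1)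
    (hdd' : Anti d d') {S : Subgroup (GL κ F)} (hS : S ≤ R) (hSd : ∀ y ∈ S, Commute y d ∧ Commute y d')
    (hc : 2 ^ k ≤ Nat.card S) : ∃ x ∈ S, x * x = -1 := by
  classical
  haveI : Finite (GL κ F) := Finite.of_injective (fun g => (g : Mκ)) fun _ _ => Units.ext
  by_contra hno
  push Not at hno
  have hsq : ∀ x ∈ S, x * x = 1 := fun x hx => (hR.sq x (hS hx)).resolve_right (hno x hx)
  have hab : ∀ a ∈ S, ∀ b ∈ S, a * b = b * a := fun a ha b hb => by
    rcases hR.comm a (hS ha) b (hS hb) with h | h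
    · exact h
    · exact absurd (by rw [sq_mul_anti h, hsq a ha, hsq b hb, one_mul]) (hno (a * b) (S.mul_mem ha hb))
  obtain ⟨m', Φ, R', α, β, hm', -, -, hnb, -, -, -, -, hR'm, hdup, -⟩ :=
    exists_split hR hB hle hk (by omega) hd hd' hdd hd'd' hdd'
  haveI : Finite (GL (Fin m' ⊕ Fin m') F) :=
    Finite.of_injective (fun g => (g : Matrix (Fin m' ⊕ Fin m') (Fin m' ⊕ Fin m') F)) fun _ _ => Units.ext
  choose f hf using fun y : S => hdup y (hSd y y.2).1 (hSd y y.2).2
  have hfm : ∀ y z : S, f (y * z) = f y * f z := fun y z => CfsgLib.MaxSub.SymEight.dup_injective (by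
    rw [← hf, map_mul CfsgLib.MaxSub.SymEight.dup, ← hf, ← hf, Subgroup.coe_mul, map_mul])
  let g : S →* GL (Fin m' ⊕ Fin m') F := MonoidHom.mk' f hfm
  have hg : Function.Injective g := fun y z e => Subtype.ext ((coordGL Φ).injective (by
    rw [hf y, hf z]; exact congrArg _ e))
  have hlt := hnb g.range (by
      rintro _ ⟨y, rfl⟩
      exact (hR'm _).2 (hf y ▸ Subgroup.mem_map_of_mem _ (hS y.2)))
    (by
      rintro _ ⟨y, rfl⟩ _ ⟨z, rfl⟩
      rw [← map_mul, ← map_mul]; exact congrArg g (Subtype.ext (hab y y.2 z z.2)))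
    (by
      rintro _ ⟨y, rfl⟩
      rw [← map_mul, ← map_one g]; exact congrArg g (Subtype.ext (hsq y y.2)))
  rw [← Nat.card_congr (MonoidHom.ofInjective hg).toEquiv, show k - 1 + 1 = k by omega] at hlt
  omega

/-- A quaternion pair in a larger part. -/
theorem exists_minus_pair {d d' : GL κ F} (hd : d ∈ R) (hd' : d' ∈ R) (hdd : d * d = -1) (hd'd' : d' * d' = -1)
    (hdd' : Anti d d') {S : Subgroup (GL κ F)} (hS : S ≤ R) (hSd : ∀ y ∈ S, Commute y d ∧ Commute y d')
    (hc : 2 ^ (k + 1) ≤ Nat.card S) :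
    ∃ x ∈ S, ∃ y ∈ S, x * x = -1 ∧ y * y = -1 ∧ Anti x y := by
  classical
  haveI : Finite (GL κ F) := Finite.of_injective (fun g => (g : Mκ)) fun _ _ => Units.ext
  rw [pow_succ] at hc
  have hanti : ∃ p ∈ S, ∃ q ∈ S, Anti p q := by
    by_contra hno
    push Not at hno
    have hab : ∀ a ∈ S, ∀ b ∈ S, Commute a b := fun a ha b hb =>
      (hR.comm a (hS ha) b (hS hb)).resolve_right (hno a ha b hb)
    let T : Subgroup (GL κ F) :=
      { carrier := {x | x ∈ S ∧ x * x = 1}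
        one_mem' := ⟨S.one_mem, one_mul 1⟩
        mul_mem' := fun {a b} ha hb => ⟨S.mul_mem ha.1 hb.1, by
          rw [sq_mul_comm (hab a ha.1 b hb.1), ha.2, hb.2, one_mul]⟩
        inv_mem' := fun {a} ha => ⟨S.inv_mem ha.1, by rw [← _root_.mul_inv_rev, ha.2, inv_one]⟩ }
    have hT := card_le_two_mul (S := S) (T := T) (fun x hx => hx.1) fun a ha b hb ha' hb' => ⟨S.mul_mem ha hb, by
      rw [sq_mul_comm (hab a ha b hb), (hR.sq a (hS ha)).resolve_left fun e => ha' ⟨ha, e⟩,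
        (hR.sq b (hS hb)).resolve_left fun e => hb' ⟨hb, e⟩, neg_mul_neg, one_mul]⟩
    obtain ⟨x, hx, hxx⟩ := exists_minus hR hB hle hk hk3 hd hd' hdd hd'd' hdd' (S := T)
      (fun x hx => hS hx.1) (fun x hx => hSd x hx.1) (by omega)
    exact hR.one_ne_neg_one (hx.2.symm.trans hxx)
  obtain ⟨p, hp, q, hq, hpq⟩ := hanti
  by_cases hboth : p * p = -1 ∧ q * q = -1
  · exact ⟨p, hp, q, hq, hboth.1, hboth.2, hpq⟩
  obtain ⟨p, hp, q, hq, hpp, hqq, hpq⟩ : ∃ p ∈ S, ∃ q ∈ S, p * p = 1 ∧ q * q = 1 ∧ Anti p q := by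
    rcases hR.sq p (hS hp) with h | h <;> rcases hR.sq q (hS hq) with h' | h'
    · exact ⟨p, hp, q, hq, h, h', hpq⟩
    · exact ⟨p, hp, p * q, S.mul_mem hp hq, h, by rw [sq_mul_anti hpq, h, h', one_mul, neg_neg],
        Anti.comm_mul_right (Commute.refl p) hpq⟩
    · exact ⟨p * q, S.mul_mem hp hq, q, hq, by rw [sq_mul_anti hpq, h, h', mul_one, neg_neg], h',
        hpq.mul_comm_left (Commute.refl q)⟩
    · exact absurd ⟨h, h'⟩ hboth
  have hcard := card_ec (S := S) (y := q) fun r hr => hR.comm r (hS hr) q (hS hq)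
  obtain ⟨s, hs, hss⟩ := exists_minus hR hB hle hk hk3 hd hd' hdd hd'd' hdd' (S := ec S q)
    (fun x hx => hS (mem_ec.1 hx).1) (fun x hx => hSd x (mem_ec.1 hx).1) (by omega)
  obtain ⟨hsS, hsq⟩ := mem_ec.1 hs
  rcases hR.comm s (hS hsS) p (hS hp) with h | h
  · refine ⟨p * s, S.mul_mem hp hsS, q * s, S.mul_mem hq hsS, ?_, ?_, ?_⟩
    · rw [sq_mul_comm h.symm, hpp, hss, one_mul]
    · rw [sq_mul_comm hsq.symm, hqq, hss, one_mul]
    · exact (hpq.mul_comm_left hsq).mul_comm_right (h.symm.mul_left (Commute.refl s))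
  · refine ⟨s, hsS, q * p, S.mul_mem hq hp, hss, ?_, Anti.comm_mul_right hsq h⟩
    rw [sq_mul_anti hpq.symm, hqq, hpp, one_mul]

/-- A quaternion pair of the frame. -/
theorem exists_quat_pair : ∃ a ∈ R, ∃ a' ∈ R, a * a = -1 ∧ a' * a' = -1 ∧ Anti a a' := by
  haveI : Finite (GL κ F) := Finite.of_injective (fun g => (g : Mκ)) fun _ _ => Units.ext
  have h4 : 4 ≤ Fintype.card κ := by
    rw [hk, show (4 : ℕ) = 2 ^ 2 by norm_num]; exact Nat.pow_le_pow_right (by norm_num) (by omega)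
  obtain ⟨x, hx⟩ := hR.exists_sing h4
  obtain ⟨X, hX, hxX⟩ := hR.exists_pair hx
  have hcard := card_cen hR hB hle hk hk3 (s := [x, X]) (by simp [hx.mem, hX.mem])
  have hp : 2 ^ k * 16 ≤ 2 ^ (2 * k + 1) := by
    rw [show (16 : ℕ) = 2 ^ 4 by norm_num, ← pow_add]; exact Nat.pow_le_pow_right (by norm_num) (by omega)
  have hk8 : 8 ≤ 2 ^ k := by
    rw [show (8 : ℕ) = 2 ^ 3 by norm_num]; exact Nat.pow_le_pow_right (by norm_num) hk3
  simp only [List.length_cons, List.length_nil] at hcard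
  obtain ⟨p, hp', hps⟩ := hR.exists_sing_of_card (S := cen R [x, X]) (fun w hw => (mem_cen.1 hw).1) (by omega)
  obtain ⟨hpR, hp''⟩ := mem_cen.1 hp'
  have hpx : Commute p x := hp'' x (by simp)
  have hpX : Commute p X := hp'' X (by simp)
  obtain ⟨w, hw, hwp⟩ := hR.exists_anti hpR hps.ne_one hps.ne_neg
  obtain ⟨v, hv, hvx, hvX, hvp⟩ : ∃ v ∈ R, Commute v x ∧ Commute v X ∧ Anti v p := by
    rcases hR.comm w hw x hx.mem with u | u <;> rcases hR.comm w hw X hX.mem with u' | u'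
    · exact ⟨w, hw, u, u', hwp⟩
    · exact ⟨w * x, R.mul_mem hw hx.mem, u.mul_left (Commute.refl x), u'.mul_anti_left hxX,
        hwp.mul_comm_left hpx.symm⟩
    · exact ⟨w * X, R.mul_mem hw hX.mem, u.mul_anti_left hxX.symm, u'.mul_left (Commute.refl X),
        hwp.mul_comm_left hpX.symm⟩
    · exact ⟨w * (x * X), R.mul_mem hw (R.mul_mem hx.mem hX.mem),
        u.mul_anti_left (Anti.comm_mul_left (Commute.refl x) hxX.symm),
        u'.mul_anti_left (hxX.mul_comm_left (Commute.refl X)), hwp.mul_comm_left (hpx.mul_right hpX).symm⟩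
  obtain ⟨s, hs, hsx, hsX, hss⟩ : ∃ s ∈ R, Commute s x ∧ Commute s X ∧ s * s = -1 := by
    rcases hR.sq v hv with h | h
    · exact ⟨v * p, R.mul_mem hv hpR, hvx.mul_left hpx, hvX.mul_left hpX,
        by rw [sq_mul_anti hvp, h, hps.sq, one_mul]⟩
    · exact ⟨v, hv, hvx, hvX, h⟩
  refine ⟨x * s, R.mul_mem hx.mem hs, X * s, R.mul_mem hX.mem hs, ?_, ?_, ?_⟩
  · rw [sq_mul_comm hsx.symm, hx.sq, hss, one_mul]
  · rw [sq_mul_comm hsX.symm, hX.sq, hss, one_mul]
  · exact (hxX.mul_comm_left hsX).mul_comm_right (hsx.symm.mul_left (Commute.refl s))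

variable {K : Subgroup (GL κ F)} (hRK : R ≤ K)
  (hconj : ∀ n ∈ subgroupNormalizer R, n ∈ isomM B → ∀ c ∈ K, n * c * n⁻¹ ∈ K)
  (hA : ∀ c ∈ K, ∀ d ∈ R, ∀ d' ∈ R, d * d = -1 → d' * d' = -1 → Anti d d' → Commute c d → Commute c d' → c ∈ R)
include hRK hconj hA

/-- Fixing a quaternion pair up to sign suffices. -/
theorem mem_of_sgn_pair {c d d' : GL κ F} (hc : c ∈ K) (hd : d ∈ R) (hd' : d' ∈ R) (hdd : d * d = -1)
    (hd'd' : d' * d' = -1) (hdd' : Anti d d') (h : Sgn (c * d * c⁻¹) d) (h' : Sgn (c * d' * c⁻¹) d') : c ∈ R := by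
  have hmul : ∀ q ∈ R, Commute (c * q) d → Commute (c * q) d' → c ∈ R := fun q hq u u' =>
    (R.mul_mem_cancel_right hq).1 (hA (c * q) (K.mul_mem hc (hRK hq)) d hd d' hd' hdd hd'd' hdd' u u')
  rcases h with h | h <;> rcases h' with h' | h'
  · exact hA c hc d hd d' hd' hdd hd'd' hdd' (commute_of_conj_eq h) (commute_of_conj_eq h')
  · exact hmul d hd ((commute_of_conj_eq h).mul_left (Commute.refl d)) ((anti_of_conj_eq h').mul_anti_left hdd')
  · exact hmul d' hd' ((anti_of_conj_eq h).mul_anti_left hdd'.symm)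
      ((commute_of_conj_eq h').mul_left (Commute.refl d'))
  · exact hmul (d * d') (R.mul_mem hd hd')
      ((anti_of_conj_eq h).mul_anti_left (Anti.comm_mul_left (Commute.refl d) hdd'.symm))
      ((anti_of_conj_eq h').mul_anti_left (hdd'.mul_comm_left (Commute.refl d')))

/-- An element of the kernel in the normaliser that fixes an element of square `-1` up to sign. -/
theorem mem_of_fix_minus {c a a' : GL κ F} (hc : c ∈ K) (hcN : c ∈ subgroupNormalizer R) (ha : a ∈ R) (ha' : a' ∈ R)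
    (haa : a * a = -1) (ha'a' : a' * a' = -1) (haa' : Anti a a') (hfix : Sgn (c * a * c⁻¹) a) : c ∈ R := by
  obtain ⟨h, hhN, hhB, h1, h2', h3, hcy⟩ := exists_rot hR hle ha ha' haa ha'a' haa'
  obtain ⟨b, hb⟩ : ∃ b, b = c * a' * c⁻¹ := ⟨_, rfl⟩
  have hbR : b ∈ R := hb ▸ conj_mem hcN ha'
  have hab : Anti a b := by
    have := haa'.conj c
    rw [← hb] at this
    rcases hfix with e | e <;> rw [e] at this
    · exact this
    · simpa using this.neg_left
  obtain ⟨β, hβR, hβa, hβa', hβb⟩ : ∃ β ∈ R, Commute β a ∧ Commute β a' ∧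
      (∀ y, Commute y a → Commute y a' → Commute y β → Commute y b) := by
    rcases hR.comm b hbR a' ha' with u | u
    · refine ⟨b * a', R.mul_mem hbR ha', hab.symm.mul_anti_left haa'.symm, u.mul_left (Commute.refl a'),
        fun y hy hy' hyb => ?_⟩
      have := hyb.mul_right hy'.inv_right
      rwa [mul_inv_cancel_right] at this
    · have w : Anti (a * a') a := Anti.comm_mul_left (Commute.refl a) haa'.symm
      have w' : Anti (a * a') a' := haa'.mul_comm_left (Commute.refl a')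
      refine ⟨b * (a * a'), R.mul_mem hbR (R.mul_mem ha ha'), hab.symm.mul_anti_left w, u.mul_anti_left w',
        fun y hy hy' hyb => ?_⟩
      have := hyb.mul_right (hy.mul_right hy').inv_right
      rwa [mul_inv_cancel_right] at this
  have hcard := card_cen hR hB hle hk hk3 (s := [a, a', β]) (by simp [ha, ha', hβR])
  have hp : 2 ^ (k + 1) * 8 ≤ 2 ^ (2 * k + 1) := by
    rw [show (8 : ℕ) = 2 ^ 3 by norm_num, ← pow_add]; exact Nat.pow_le_pow_right (by norm_num) (by omega)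
  simp only [List.length_cons, List.length_nil] at hcard
  obtain ⟨x, hx, y, hy, hxx, hyy, hxy⟩ := exists_minus_pair hR hB hle hk hk3 ha ha' haa ha'a' haa'
    (S := cen R [a, a', β]) (fun w hw => (mem_cen.1 hw).1)
    (fun w hw => ⟨(mem_cen.1 hw).2 a (by simp), (mem_cen.1 hw).2 a' (by simp)⟩) (by omega)
  obtain ⟨c1, hc1⟩ : ∃ c1, c1 = c * h * c⁻¹ * h⁻¹ := ⟨_, rfl⟩
  have hc1K : c1 ∈ K := by
    rw [hc1, show c * h * c⁻¹ * h⁻¹ = c * (h * c⁻¹ * h⁻¹) by group]
    exact K.mul_mem hc (hconj h hhN hhB _ (K.inv_mem hc))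
  have hfx : ∀ w ∈ cen R [a, a', β], Commute c1 w := by
    intro w hw
    obtain ⟨hwR, hw'⟩ := mem_cen.1 hw
    have hwa : Commute w a := hw' a (by simp)
    have hwa' : Commute w a' := hw' a' (by simp)
    have hwb : Commute w b := hβb w hwa hwa' (hw' β (by simp))
    obtain ⟨w₀, rfl⟩ : ∃ w₀, w = c * w₀ * c⁻¹ := ⟨c⁻¹ * w * c, by group⟩
    have k1 : Commute (c * w₀ * c⁻¹) (c * a * c⁻¹) := by
      rcases hfix with e | e <;> rw [e]
      · exact hwa
      · exact hwa.neg_right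
    rw [hb] at hwb
    have k2 : Commute h w₀ := (hcy w₀ ((Commute.conj_iff c).1 k1) ((Commute.conj_iff c).1 hwb)).symm
    rw [hc1]
    exact ((Commute.conj_iff c).2 k2).mul_left (hcy _ hwa hwa').symm.inv_left
  have hc1R : c1 ∈ R := hA c1 hc1K x (mem_cen.1 hx).1 y (mem_cen.1 hy).1 hxx hyy hxy (hfx x hx) (hfx y hy)
  refine mem_of_sgn_pair hR hB hle hk hk3 hRK hconj hA hc ha ha' haa ha'a' haa' hfix ?_
  have e1 : c * h * c⁻¹ * (c * a * c⁻¹) * (c * h * c⁻¹)⁻¹ = b := by
    rw [hb, ← h1]; group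
  have e2 : c * h * c⁻¹ = c1 * h := by rw [hc1]; group
  rw [e2] at e1
  rw [← hb]
  have e3 : Sgn (c1 * h * (c * a * c⁻¹) * (c1 * h)⁻¹) (c1 * a' * c1⁻¹) := by
    have := hfix.conj (c1 * h)
    rwa [show c1 * h * a * (c1 * h)⁻¹ = c1 * (h * a * h⁻¹) * c1⁻¹ by group, h1] at this
  rw [e1] at e3
  exact e3.trans (hR.conj_sgn hc1R ha')

/-- The normaliser meets the kernel in the frame. -/
theorem mem_of_normalizer {c : GL κ F} (hc : c ∈ K) (hcN : c ∈ subgroupNormalizer R) : c ∈ R := by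
  have key : ∀ d ∈ R, ∀ d' ∈ R, d * d = -1 → d' * d' = -1 → Anti d d' →
      Sgn (c * d * c⁻¹) d ∨ Sgn (c * d * c⁻¹) d' ∨ Sgn (c * d * c⁻¹) (d * d') := by
    intro d hd d' hd' hdd hd'd' hdd'
    obtain ⟨h, hhN, hhB, h1, h2', h3, hcy⟩ := exists_rot hR hle hd hd' hdd hd'd' hdd'
    obtain ⟨e, he⟩ : ∃ e, e = c * d * c⁻¹ := ⟨_, rfl⟩
    obtain ⟨e', he'⟩ : ∃ e', e' = c * d' * c⁻¹ := ⟨_, rfl⟩
    have heR : e ∈ R := he ▸ conj_mem hcN hd
    have he'R : e' ∈ R := he' ▸ conj_mem hcN hd'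
    have hcard := card_cen hR hB hle hk hk3 (s := [d, d', e, e']) (by simp [hd, hd', heR, he'R])
    have hp : 2 ^ k * 16 ≤ 2 ^ (2 * k + 1) := by
      rw [show (16 : ℕ) = 2 ^ 4 by norm_num, ← pow_add]; exact Nat.pow_le_pow_right (by norm_num) (by omega)
    simp only [List.length_cons, List.length_nil] at hcard
    obtain ⟨x, hx, hxx⟩ := exists_minus hR hB hle hk hk3 hd hd' hdd hd'd' hdd' (S := cen R [d, d', e, e'])
      (fun w hw => (mem_cen.1 hw).1) (fun w hw => ⟨(mem_cen.1 hw).2 d (by simp), (mem_cen.1 hw).2 d' (by simp)⟩)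
      (by omega)
    obtain ⟨hxR, hx'⟩ := mem_cen.1 hx
    obtain ⟨c1, hc1⟩ : ∃ c1, c1 = c * h * c⁻¹ * h⁻¹ := ⟨_, rfl⟩
    have hc1K : c1 ∈ K := by
      rw [hc1, show c * h * c⁻¹ * h⁻¹ = c * (h * c⁻¹ * h⁻¹) by group]
      exact K.mul_mem hc (hconj h hhN hhB _ (K.inv_mem hc))
    have hc1N : c1 ∈ subgroupNormalizer R := hc1 ▸ mul_mem (mul_mem (mul_mem hcN hhN) (inv_mem hcN)) (inv_mem hhN)
    have hfx : Commute c1 x := by
      have k1 : Commute x (c * d * c⁻¹) := he ▸ hx' e (by simp)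
      have k2 : Commute x (c * d' * c⁻¹) := he' ▸ hx' e' (by simp)
      have k3 := hcy x (hx' d (by simp)) (hx' d' (by simp))
      obtain ⟨x₀, rfl⟩ : ∃ x₀, x = c * x₀ * c⁻¹ := ⟨c⁻¹ * x * c, by group⟩
      rw [hc1]
      exact ((Commute.conj_iff c).2 (hcy x₀ ((Commute.conj_iff c).1 k1) ((Commute.conj_iff c).1 k2)).symm).mul_left
        k3.symm.inv_left
    -- a partner of `x`
    obtain ⟨x', hx'R, hx'x, hx'2⟩ : ∃ x' ∈ R, Anti x x' ∧ x' * x' = -1 := by
      obtain ⟨w, hw, hwx⟩ := hR.exists_anti hxR (hR.sq_neg_ne hxx).1 (hR.sq_neg_ne hxx).2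
      rcases hR.sq w hw with hww | hww
      · rcases hR.comm w hw d hd with u | u
        · exact ⟨w * d, R.mul_mem hw hd, hwx.symm.mul_comm_right (hx' d (by simp)),
            by rw [sq_mul_comm u, hww, hdd, one_mul]⟩
        rcases hR.comm w hw d' hd' with u' | u'
        · exact ⟨w * d', R.mul_mem hw hd', hwx.symm.mul_comm_right (hx' d' (by simp)),
            by rw [sq_mul_comm u', hww, hd'd', one_mul]⟩
        · refine ⟨w * (d * d'), R.mul_mem hw (R.mul_mem hd hd'),
            hwx.symm.mul_comm_right ((hx' d (by simp)).mul_right (hx' d' (by simp))), ?_⟩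
          rw [sq_mul_comm (u.mul_anti_right u'), hww, one_mul, sq_mul_anti hdd', hdd, hd'd', neg_mul_neg, one_mul]
      · exact ⟨w, hw, hwx.symm, hww⟩
    have hc1R : c1 ∈ R := mem_of_fix_minus hR hB hle hk hk3 hRK hconj hA hc1K hc1N hxR hx'R hxx hx'2 hx'x
      (Or.inl (by rw [hfx.eq, mul_inv_cancel_right]))
    have hcen : ∀ y ∈ R, Commute y d → Commute y d' → Commute y e := by
      intro y hy hyd hyd'
      obtain ⟨y₀, rfl⟩ : ∃ y₀, y = c * y₀ * c⁻¹ := ⟨c⁻¹ * y * c, by group⟩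
      have hy₀ : y₀ ∈ R := by
        have := conj_mem (inv_mem hcN) hy
        simpa [mul_assoc] using this
      have hs : Sgn (h * y₀ * h⁻¹) y₀ := by
        have h0 := ((hR.conj_sgn hc1R hy).conj c⁻¹)
        have hc : c⁻¹ * (c1 * (c * y₀ * c⁻¹) * c1⁻¹) * c⁻¹⁻¹ = h * y₀ * h⁻¹ := by
          have k4 : h⁻¹ * (c * y₀ * c⁻¹) * h = c * y₀ * c⁻¹ := by
            rw [mul_assoc, (hcy _ hyd hyd').eq, inv_mul_cancel_left]
          calc c⁻¹ * (c1 * (c * y₀ * c⁻¹) * c1⁻¹) * c⁻¹⁻¹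
              = h * c⁻¹ * (h⁻¹ * (c * y₀ * c⁻¹) * h) * c * h⁻¹ := by rw [hc1]; group
            _ = h * y₀ * h⁻¹ := by rw [k4]; group
        rw [hc] at h0
        simpa [mul_assoc] using h0
      have hanti : ∀ {u u' : GL κ F}, h * u * h⁻¹ = u' → Anti y₀ u → Anti y₀ u' := fun {u u'} hu ha => by
        have := ha.conj h
        rw [hu] at this
        rcases hs with e | e <;> rw [e] at this
        · exact this
        · simpa using this.neg_left
      have hc0 : Commute y₀ d := (hR.comm y₀ hy₀ d hd).resolve_right fun ha =>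
        hR.not_anti (ha.mul_anti_right (hanti h1 ha)) (hanti h2' (hanti h1 ha))
      have := (Commute.conj_iff c).2 hc0
      rwa [← he] at this
    obtain ⟨q, hqR, hq4, hq1, hq2⟩ : ∃ q ∈ R, (q = 1 ∨ q = d ∨ q = d' ∨ q = d * d') ∧
        Commute (q⁻¹ * e) d ∧ Commute (q⁻¹ * e) d' := by
      rcases hR.comm e heR d hd with u | u <;> rcases hR.comm e heR d' hd' with u' | u'
      · exact ⟨1, R.one_mem, Or.inl rfl, by simpa using u, by simpa using u'⟩
      · exact ⟨d, hd, Or.inr (Or.inl rfl), (Commute.refl d).inv_left.mul_left u,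
          hdd'.inv_left.mul_anti_left u'⟩
      · exact ⟨d', hd', Or.inr (Or.inr (Or.inl rfl)), hdd'.symm.inv_left.mul_anti_left u,
          (Commute.refl d').inv_left.mul_left u'⟩
      · exact ⟨d * d', R.mul_mem hd hd', Or.inr (Or.inr (Or.inr rfl)),
          (Anti.comm_mul_left (Commute.refl d) hdd'.symm).inv_left.mul_anti_left u,
          (hdd'.mul_comm_left (Commute.refl d')).inv_left.mul_anti_left u'⟩
    have hqe : Sgn (q⁻¹ * e) 1 := by
      refine hR.eq_one_of_comm (R.mul_mem (R.inv_mem hqR) heR) fun w hw => ?_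
      obtain ⟨r, hrR, hr1, hr2, hr3⟩ : ∃ r ∈ R, Commute (r⁻¹ * w) d ∧ Commute (r⁻¹ * w) d' ∧
          Commute r (q⁻¹ * e) := by
        rcases hR.comm w hw d hd with u | u <;> rcases hR.comm w hw d' hd' with u' | u'
        · exact ⟨1, R.one_mem, by simpa using u, by simpa using u', Commute.one_left _⟩
        · exact ⟨d, hd, (Commute.refl d).inv_left.mul_left u, hdd'.inv_left.mul_anti_left u', hq1.symm⟩
        · exact ⟨d', hd', hdd'.symm.inv_left.mul_anti_left u, (Commute.refl d').inv_left.mul_left u', hq2.symm⟩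
        · exact ⟨d * d', R.mul_mem hd hd', (Anti.comm_mul_left (Commute.refl d) hdd'.symm).inv_left.mul_anti_left u,
            (hdd'.mul_comm_left (Commute.refl d')).inv_left.mul_anti_left u', hq1.symm.mul_left hq2.symm⟩
      have hwq : Commute (r⁻¹ * w) (q⁻¹ * e) := by
        refine Commute.mul_right ?_ (hcen _ (R.mul_mem (R.inv_mem hrR) hw) hr1 hr2)
        rcases hq4 with rfl | rfl | rfl | rfl
        · simp
        · exact hr1.inv_right
        · exact hr2.inv_right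
        · exact (hr1.mul_right hr2).inv_right
      have := hr3.mul_left hwq
      rwa [mul_inv_cancel_left] at this
    have hes : Sgn e q := by
      have := (Sgn.refl q).mul hqe
      rwa [mul_inv_cancel_left, mul_one] at this
    rw [← he]
    rcases hq4 with rfl | rfl | rfl | rfl
    · exfalso
      rcases hes with r | r <;> rw [he] at r
      · exact (hR.sq_neg_ne hdd).1 (conj_eq_one_iff.1 r)
      · refine (hR.sq_neg_ne hdd).2 ?_
        have := congrArg (fun X => c⁻¹ * X * c) r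
        simpa [mul_assoc] using this
    · exact Or.inl hes
    · exact Or.inr (Or.inl hes)
    · exact Or.inr (Or.inr hes)
  haveI : Finite (GL κ F) := Finite.of_injective (fun g => (g : Mκ)) fun _ _ => Units.ext
  obtain ⟨a, ha, a', ha', haa, ha'a', haa'⟩ := exists_quat_pair hR hB hle hk hk3
  by_cases hfix : Sgn (c * a * c⁻¹) a
  · exact mem_of_fix_minus hR hB hle hk hk3 hRK hconj hA hc hcN ha ha' haa ha'a' haa' hfix
  exfalso
  have hcard := card_cen hR hB hle hk hk3 (s := [a, a']) (by simp [ha, ha'])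
  have hp : 2 ^ (k + 1) * 4 ≤ 2 ^ (2 * k + 1) := by
    rw [show (4 : ℕ) = 2 ^ 2 by norm_num, ← pow_add]; exact Nat.pow_le_pow_right (by norm_num) (by omega)
  simp only [List.length_cons, List.length_nil] at hcard
  obtain ⟨x, hx, x', hx', hxx, hx'x', hxx'⟩ := exists_minus_pair hR hB hle hk hk3 ha ha' haa ha'a' haa'
    (S := cen R [a, a']) (fun w hw => (mem_cen.1 hw).1)
    (fun w hw => ⟨(mem_cen.1 hw).2 a (by simp), (mem_cen.1 hw).2 a' (by simp)⟩) (by omega)
  obtain ⟨hxR, hxc⟩ := mem_cen.1 hx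
  obtain ⟨hx'R, hx'c⟩ := mem_cen.1 hx'
  have hcard' := card_cen hR hB hle hk hk3 (s := [a, a', x, x']) (by simp [ha, ha', hxR, hx'R])
  have hp' : 2 ^ k * 16 ≤ 2 ^ (2 * k + 1) := by
    rw [show (16 : ℕ) = 2 ^ 4 by norm_num, ← pow_add]; exact Nat.pow_le_pow_right (by norm_num) (by omega)
  simp only [List.length_cons, List.length_nil] at hcard'
  obtain ⟨s, hs, hss⟩ := exists_minus hR hB hle hk hk3 ha ha' haa ha'a' haa' (S := cen R [a, a', x, x'])
    (fun w hw => (mem_cen.1 hw).1) (fun w hw => ⟨(mem_cen.1 hw).2 a (by simp), (mem_cen.1 hw).2 a' (by simp)⟩)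
    (by omega)
  obtain ⟨hsR, hsc⟩ := mem_cen.1 hs
  obtain ⟨t, ht⟩ : ∃ t, t = x * s := ⟨_, rfl⟩
  have hta : Commute t a := ht ▸ (hxc a (by simp)).mul_left (hsc a (by simp))
  have hta' : Commute t a' := ht ▸ (hxc a' (by simp)).mul_left (hsc a' (by simp))
  have htx' : Anti t x' := ht ▸ hxx'.mul_comm_left (hsc x' (by simp))
  have htt : t * t = 1 := by
    rw [ht, sq_mul_comm (hsc x (by simp)).symm, hxx, hss, neg_mul_neg, one_mul]
  have hax' : Commute a x' := (hx'c a (by simp)).symm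
  have ha'x' : Commute a' x' := (hx'c a' (by simp)).symm
  have h1 : ∀ y, Commute y x' → Sgn (c * a * c⁻¹) y → Commute (c * a * c⁻¹) x' := fun y hy h => by
    rcases h with h | h <;> rw [h]
    · exact hy
    · exact hy.neg_left
  have h2 : ∀ y, Anti y x' → Sgn (c * a * c⁻¹) y → Anti (c * a * c⁻¹) x' := fun y hy h => by
    rcases h with h | h <;> rw [h]
    · exact hy
    · exact hy.neg_left
  have hc1 : Commute (c * a * c⁻¹) x' := by
    rcases key a ha a' ha' haa ha'a' haa' with h | h | h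
    · exact absurd h hfix
    · exact h1 _ ha'x' h
    · exact h1 _ (hax'.mul_left ha'x') h
  have hc2 : Anti (c * a * c⁻¹) x' := by
    have htR : t ∈ R := ht ▸ R.mul_mem hxR hsR
    have ea : Anti (a' * t) x' := Anti.comm_mul_left ha'x' htx'
    rcases key a ha (a' * t) (R.mul_mem ha' htR) haa (by rw [sq_mul_comm hta'.symm, ha'a', htt, mul_one])
      (haa'.mul_comm_right hta.symm) with h | h | h
    · exact absurd h hfix
    · exact h2 _ ea h
    · exact h2 _ (Anti.comm_mul_left hax' ea) h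
  exact hR.not_anti hc1 hc2

/-- The group is the frame. -/
theorem kernel_le : K ≤ R := by
  classical
  haveI : Finite (GL κ F) := Finite.of_injective (fun g => (g : Mκ)) fun _ _ => Units.ext
  obtain ⟨Z, hZ⟩ : ∃ Z : Subgroup (GL κ F), ∀ x, x ∈ Z ↔ Sgn x 1 :=
    ⟨{ carrier := {x | Sgn x 1}
       one_mem' := Sgn.refl 1
       mul_mem' := fun {a b} ha hb => by simpa using Sgn.mul ha hb
       inv_mem' := fun {a} ha => by simpa using ha.inv }, fun _ => Iff.rfl⟩
  haveI : Z.Normal := ⟨fun x hx g => (hZ _).2 (by simpa using ((hZ x).1 hx).conj g)⟩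
  obtain ⟨f, hf⟩ : ∃ f : GL κ F →* GL κ F ⧸ Z, f = QuotientGroup.mk' Z := ⟨_, rfl⟩
  have hsgn : ∀ a b, f a = f b ↔ Sgn a b := fun a b => by
    rw [hf, QuotientGroup.mk'_apply, QuotientGroup.mk'_apply, eq_comm, QuotientGroup.eq, hZ]
    constructor
    · intro h
      have := (Sgn.refl b).mul h
      rwa [mul_inv_cancel_left, mul_one] at this
    · intro h
      simpa using (Sgn.refl b⁻¹).mul h
  let Rb : Subgroup (K.map f) := (R.map f).subgroupOf (K.map f)
  let m : ∀ r ∈ R, K.map f := fun r hr => ⟨f r, Subgroup.mem_map_of_mem f (hRK hr)⟩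
  have hRb : ∀ g : K.map f, g ∈ Rb ↔ ∃ r ∈ R, f r = g.1 := fun g => Iff.rfl
  have hm : ∀ r hr, m r hr ∈ Rb := fun r hr => (hRb _).2 ⟨r, hr, rfl⟩
  have hsq : ∀ g ∈ Rb, g * g = 1 := by
    intro g hg
    obtain ⟨r, hr, hrg⟩ := (hRb g).1 hg
    refine Subtype.ext ?_
    rw [Subgroup.coe_mul, ← hrg, ← map_mul, Subgroup.coe_one, ← map_one f]
    exact (hsgn _ _).2 (hR.sq r hr)
  have hcomm : ∀ g ∈ Rb, ∀ g' ∈ Rb, g * g' = g' * g := by
    intro g hg g' hg'
    calc g * g' = g * g' * ((g' * g) * (g' * g)) := by rw [hsq _ (mul_mem hg' hg), mul_one]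
      _ = g * (g' * g') * g * g' * g := by group
      _ = g' * g := by rw [hsq g' hg', mul_one, hsq g hg, one_mul]
  have hnorm : ∀ g, g ∈ Subgroup.normalizer (Rb : Set (K.map f)) → g ∈ Rb := by
    intro g hg
    obtain ⟨c, hc, hcg⟩ := g.2
    refine (hRb g).2 ⟨c, mem_of_normalizer hR hB hle hk hk3 hRK hconj hA hc (mem_normalizer_of_conj fun r hr => ?_), hcg⟩
    obtain ⟨r', hr', e⟩ := (hRb _).1 ((Subgroup.mem_normalizer_iff.1 hg (m r hr)).1 (hm r hr))
    rw [Subgroup.coe_mul, Subgroup.coe_mul, Subgroup.coe_inv, ← hcg] at e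
    exact hR.mem_of_sgn hr' ((hsgn _ r').1 (by rw [map_mul, map_mul, map_inv]; exact e.symm))
  haveI : Fact (Nat.Prime 2) := ⟨Nat.prime_two⟩
  have hp2 : IsPGroup 2 Rb := fun g => ⟨1, Subtype.ext (by rw [pow_one, pow_two]; exact hsq g g.2)⟩
  obtain ⟨P, hP⟩ := hp2.exists_le_sylow
  have hPR : (P : Subgroup (K.map f)) = Rb := by
    by_contra hne
    haveI : Group.IsNilpotent P := P.2.isNilpotent
    have hlt : Rb.subgroupOf P < ⊤ := lt_top_iff_ne_top.2 fun h =>
      hne (le_antisymm (fun x hx => Subgroup.mem_subgroupOf.1 (h ▸ Subgroup.mem_top (⟨x, hx⟩ : P))) hP)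
    obtain ⟨x, hx, hxR⟩ := SetLike.exists_of_lt (normalizerCondition_of_isNilpotent _ hlt)
    refine hxR (Subgroup.mem_subgroupOf.2 (hnorm _ (Subgroup.mem_normalizer_iff.2 fun y => ?_)))
    constructor
    · intro hy
      exact (Subgroup.mem_normalizer_iff.1 hx ⟨y, hP hy⟩).1 hy
    · intro hy
      have hyP : y ∈ (P : Subgroup (K.map f)) := by
        have := P.toSubgroup.mul_mem (P.toSubgroup.mul_mem (P.toSubgroup.inv_mem x.2) (hP hy)) x.2
        simpa [mul_assoc] using this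
      exact (Subgroup.mem_normalizer_iff.1 hx ⟨y, hyP⟩).2 hy
  have hPc : Subgroup.normalizer ((P : Subgroup (K.map f)) : Set (K.map f)) ≤
      Subgroup.centralizer ((P : Subgroup (K.map f)) : Set (K.map f)) := by
    rw [hPR]
    exact fun x hx => Subgroup.mem_centralizer_iff.2 fun y hy => hcomm y hy x (hnorm x hx)
  have hcompl := MonoidHom.ker_transferSylow_isComplement' P hPc
  obtain ⟨O, hO⟩ : ∃ O, O = (MonoidHom.transferSylow P hPc).ker := ⟨_, rfl⟩
  rw [← hO, hPR] at hcompl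
  have hOn : O.Normal := hO ▸ MonoidHom.normal_ker _
  have hdis : ∀ x ∈ O, x ∈ Rb → x = 1 := fun x hx hx' =>
    Subgroup.mem_bot.1 (hcompl.disjoint.le_bot ⟨hx, hx'⟩)
  have hfix : ∀ {c r : GL κ F} (hr : r ∈ R) {g : K.map f}, f c = g.1 → Commute g (m r hr) →
      Sgn (c * r * c⁻¹) r := by
    intro c r hr g hcg h
    refine (hsgn _ _).1 ?_
    have e := congrArg Subtype.val h.eq
    rw [Subgroup.coe_mul, Subgroup.coe_mul, show ((m r hr : K.map f) : GL κ F ⧸ Z) = f r from rfl, ← hcg] at e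
    rw [map_mul, map_mul, map_inv, e, mul_inv_cancel_right]
  have hC2 : ∀ x ∈ O, ∀ i i' (hi : i ∈ R) (hi' : i' ∈ R), i * i = -1 → i' * i' = -1 → Anti i i' →
      Commute x (m i hi) → Commute x (m i' hi') → x = 1 := by
    intro x hx i i' hi hi' hii hii' han h h'
    obtain ⟨c, hc, hcx⟩ := x.2
    exact hdis x hx ((hRb x).2 ⟨c, mem_of_sgn_pair hR hB hle hk hk3 hRK hconj hA hc hi hi' hii hii' han
      (hfix hi hcx h) (hfix hi' hcx h'), hcx⟩)
  have hmm : ∀ {a b : GL κ F} (ha : a ∈ R) (hb : b ∈ R), m a ha * m b hb = m (a * b) (R.mul_mem ha hb) :=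
    fun ha hb => Subtype.ext (map_mul f _ _).symm
  -- elements of the complement commuting with given elements of the frame
  have hnS : ∀ (s : List (K.map f)), (∀ y ∈ s, y ∈ Rb) → ∀ g ∈ Rb,
      ∀ x ∈ O ⊓ Subgroup.centralizer {y | y ∈ s}, g * x * g ∈ O ⊓ Subgroup.centralizer {y | y ∈ s} := by
    intro s hs g hg x hx
    refine ⟨?_, Subgroup.mem_centralizer_iff.2 fun y hy => ?_⟩
    · have := hOn.conj_mem x hx.1 g
      rwa [inv_eq_of_mul_eq_one_right (hsq g hg)] at this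
    · have e : Commute y x := Subgroup.mem_centralizer_iff.1 hx.2 y hy
      have e' : Commute y g := hcomm y (hs y hy) g hg
      exact ((e'.mul_right e).mul_right e').eq
  have hL2 : ∀ i u (hi : i ∈ R) (hu : u ∈ R), i * i = -1 → u * u = -1 → Commute i u →
      (∃ u' ∈ R, Anti u' u ∧ Commute u' i) → ∀ x ∈ O, Commute x (m i hi) → Commute x (m u hu) → x = 1 := by
    intro i u hi hu hii huu hiu ⟨u', hu', hu'u, hu'i⟩ x hx hxi hxu
    have hui : Anti (u' : GL κ F) (u * i) := hu'u.mul_comm_right hu'i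
    obtain ⟨a, ha, hau, hai, haa⟩ : ∃ a ∈ R, Commute a u ∧ Anti a i ∧ a * a = -1 := by
      obtain ⟨w, hw, hwu, hwi⟩ := hR.exists_sign hu hi (hR.sq_neg_ne hii).1 (hR.sq_neg_ne hii).2
        (hR.anti_ne hui).1 (hR.anti_ne hui).2
      rcases hR.sq w hw with h | h
      · exact ⟨w * u, R.mul_mem hw hu, hwu.mul_left (Commute.refl u), hwi.mul_comm_left hiu.symm,
          by rw [sq_mul_comm hwu, h, huu, one_mul]⟩
      · exact ⟨w, hw, hwu, hwi, h⟩
    obtain ⟨b, hb, hbi, hbu, hba, hbb⟩ : ∃ b ∈ R, Commute b i ∧ Anti b u ∧ Anti b a ∧ b * b = -1 := by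
      have e1 : u * a * u = -a := by
        rw [hau.symm.eq, mul_assoc, huu, mul_neg, mul_one]
      have han : ¬ Sgn a 1 := fun h => h.elim (hR.sq_neg_ne haa).1 (hR.sq_neg_ne haa).2
      have hia : ¬ Sgn (i * a) 1 := fun h => h.elim
        (hR.anti_ne (Anti.comm_mul_right (Commute.refl i) hai.symm)).1
        (hR.anti_ne (Anti.comm_mul_right (Commute.refl i) hai.symm)).2
      obtain ⟨q, hq, hqi, hqua, hqu⟩ := hR.exists_sign₃ hi (R.mul_mem hu ha) hu (hR.sq_neg_ne huu).1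
        (hR.sq_neg_ne huu).2 (hR.anti_ne (Anti.comm_mul_right hu'i hu'u)).1
        (hR.anti_ne (Anti.comm_mul_right hu'i hu'u)).2
        (by rw [e1]; exact fun h => han (Or.inr (neg_eq_iff_eq_neg.1 h)))
        (by rw [e1]; exact fun h => han (Or.inl (neg_inj.1 h)))
        (by rw [e1, mul_neg]; exact fun h => hia (Or.inr (neg_eq_iff_eq_neg.1 h)))
        (by rw [e1, mul_neg]; exact fun h => hia (Or.inl (neg_inj.1 h)))
      have hqa : Anti q a := by
        have := hqu.inv_right.mul_comm_right hqua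
        rwa [inv_mul_cancel_left] at this
      rcases hR.sq q hq with h | h
      · have hcard := card_cen hR hB hle hk hk3 (s := [i, a, u, q]) (by simp [hi, ha, hu, hq])
        have hp : 2 ^ k * 16 ≤ 2 ^ (2 * k + 1) := by
          rw [show (16 : ℕ) = 2 ^ 4 by norm_num, ← pow_add]; exact Nat.pow_le_pow_right (by norm_num) (by omega)
        simp only [List.length_cons, List.length_nil] at hcard
        obtain ⟨s, hs, hss⟩ := exists_minus hR hB hle hk hk3 hi ha hii haa hai.symm (S := cen R [i, a, u, q])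
          (fun w hw => (mem_cen.1 hw).1)
          (fun w hw => ⟨(mem_cen.1 hw).2 i (by simp), (mem_cen.1 hw).2 a (by simp)⟩) (by omega)
        obtain ⟨hsR, hsc⟩ := mem_cen.1 hs
        exact ⟨q * s, R.mul_mem hq hsR, hqi.mul_left (hsc i (by simp)), hqu.mul_comm_left (hsc u (by simp)),
          hqa.mul_comm_left (hsc a (by simp)), by rw [sq_mul_comm (hsc q (by simp)).symm, h, hss, one_mul]⟩
      · exact ⟨q, hq, hqi, hqu, hqa, h⟩
    have hx' : x ∈ O ⊓ Subgroup.centralizer {y | y ∈ [m i hi, m u hu]} :=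
      ⟨hx, Subgroup.mem_centralizer_iff.2 fun y hy => by
        rcases List.mem_pair.1 hy with rfl | rfl
        · exact hxi.symm.eq
        · exact hxu.symm.eq⟩
    have hs : ∀ y ∈ [m i hi, m u hu], y ∈ Rb := fun y hy => by
      rcases List.mem_pair.1 hy with rfl | rfl
      · exact hm i hi
      · exact hm u hu
    have hget : ∀ y ∈ O ⊓ Subgroup.centralizer {y | y ∈ [m i hi, m u hu]},
        Commute y (m i hi) ∧ Commute y (m u hu) := fun y hy =>
      ⟨Commute.symm (Subgroup.mem_centralizer_iff.1 hy.2 _ (List.mem_pair.2 (Or.inl rfl))),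
        Commute.symm (Subgroup.mem_centralizer_iff.1 hy.2 _ (List.mem_pair.2 (Or.inr rfl)))⟩
    refine fix_bot _ (m a ha) (m b hb) (hsq _ (hm a ha)) (hsq _ (hm b hb)) (hnS _ hs _ (hm a ha)) (hnS _ hs _ (hm b hb))
      ?_ ?_ ?_ x hx'
    · exact fun y hy h => hC2 y hy.1 i a hi ha hii haa hai.symm (hget y hy).1 h
    · exact fun y hy h => hC2 y hy.1 u b hu hb huu hbb hbu.symm (hget y hy).2 h
    · intro y hy h
      rw [hmm ha hb] at h
      exact hC2 y hy.1 i (a * b) hi (R.mul_mem ha hb) hii (by rw [sq_mul_anti hba.symm, haa, hbb, neg_mul_neg, one_mul])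
        (hai.mul_comm_left hbi).symm (hget y hy).1 h
  have hL1 : ∀ i i' (hi : i ∈ R), i' ∈ R → i * i = -1 → i' * i' = -1 → Anti i i' →
      ∀ x ∈ O, Commute x (m i hi) → x = 1 := by
    intro i i' hi hi' hii hii' han x hx hxi
    have hcard := card_cen hR hB hle hk hk3 (s := [i, i']) (by simp [hi, hi'])
    have hp : 2 ^ (k + 1) * 4 ≤ 2 ^ (2 * k + 1) := by
      rw [show (4 : ℕ) = 2 ^ 2 by norm_num, ← pow_add]; exact Nat.pow_le_pow_right (by norm_num) (by omega)
    simp only [List.length_cons, List.length_nil] at hcard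
    obtain ⟨u, hu, u', hu', huu, huu', huan⟩ := exists_minus_pair hR hB hle hk hk3 hi hi' hii hii' han
      (S := cen R [i, i']) (fun w hw => (mem_cen.1 hw).1)
      (fun w hw => ⟨(mem_cen.1 hw).2 i (by simp), (mem_cen.1 hw).2 i' (by simp)⟩) (by omega)
    obtain ⟨huR, huc⟩ := mem_cen.1 hu
    obtain ⟨hu'R, hu'c⟩ := mem_cen.1 hu'
    have hs : ∀ y ∈ [m i hi], y ∈ Rb := fun y hy => (List.mem_singleton.1 hy) ▸ hm i hi
    have hget : ∀ y ∈ O ⊓ Subgroup.centralizer {y | y ∈ [m i hi]}, Commute y (m i hi) := fun y hy =>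
      Commute.symm (Subgroup.mem_centralizer_iff.1 hy.2 _ (List.mem_singleton.2 rfl))
    refine fix_bot _ (m u huR) (m u' hu'R) (hsq _ (hm u huR)) (hsq _ (hm u' hu'R)) (hnS _ hs _ (hm u huR))
      (hnS _ hs _ (hm u' hu'R)) ?_ ?_ ?_ x ⟨hx, Subgroup.mem_centralizer_iff.2 fun y hy => by
        rw [List.mem_singleton.1 hy]; exact hxi.symm.eq⟩
    · exact fun y hy h => hL2 i u hi huR hii huu (huc i (by simp)).symm
        ⟨u', hu'R, huan.symm, hu'c i (by simp)⟩ y hy.1 (hget y hy) h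
    · exact fun y hy h => hL2 i u' hi hu'R hii huu' (hu'c i (by simp)).symm
        ⟨u, huR, huan, huc i (by simp)⟩ y hy.1 (hget y hy) h
    · intro y hy h
      rw [hmm huR hu'R] at h
      exact hL2 i (u * u') hi (R.mul_mem huR hu'R) hii (by rw [sq_mul_anti huan, huu, huu', neg_mul_neg, one_mul])
        ((huc i (by simp)).mul_left (hu'c i (by simp))).symm
        ⟨u, huR, Anti.comm_mul_right (Commute.refl u) huan, huc i (by simp)⟩ y hy.1 (hget y hy) h
  obtain ⟨i, hi, i', hi', hii, hii', han⟩ := exists_quat_pair hR hB hle hk hk3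
  have hO1 : ∀ x ∈ O, x = 1 := by
    have hn : ∀ g ∈ Rb, ∀ x ∈ O, g * x * g ∈ O := fun g hg x hx => by
      have := hOn.conj_mem x hx g
      rwa [inv_eq_of_mul_eq_one_right (hsq g hg)] at this
    refine fix_bot O (m i hi) (m i' hi') (hsq _ (hm i hi)) (hsq _ (hm i' hi')) (hn _ (hm i hi)) (hn _ (hm i' hi')) ?_ ?_ ?_
    · exact fun x hx h => hL1 i i' hi hi' hii hii' han x hx h
    · exact fun x hx h => hL1 i' i hi' hi hii' hii han.symm x hx h
    · intro x hx h
      rw [hmm hi hi'] at h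
      exact hL1 (i * i') i (R.mul_mem hi hi') hi (by rw [sq_mul_anti han, hii, hii', neg_mul_neg, one_mul]) hii
        (Anti.comm_mul_left (Commute.refl i) han.symm) x hx h
  intro c hc
  obtain ⟨⟨o, r⟩, hor⟩ := hcompl.2 (⟨f c, Subgroup.mem_map_of_mem f hc⟩ : K.map f)
  obtain ⟨r', hr', e⟩ := (hRb _).1 r.2
  have e' : f c = f r' := by
    have h2 : (o.1 : K.map f).1 * (r.1 : K.map f).1 = f c := congrArg Subtype.val hor
    rw [e, ← h2, hO1 o.1 o.2]
    simp
  exact hR.mem_of_sgn hr' ((hsgn _ _).1 e')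

end kernel

end CfsgLib.MaxSub.OmExtra
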