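import Cfsg.Agent.Lib.MaxSub.OmExtra.Dich

/-!
Normalisers of extraspecial two-groups of plus type are maximal in `Ω` in every degree at least sixteen.
-/

set_option autoImplicit false
set_option linter.unusedSectionVars false
set_option linter.unusedSimpArgs false
set_option linter.style.haveILetI false

namespace CfsgLib.MaxSub.OmExtra

open scoped MatrixGroups
open Cfsg.Geo Matrix CfsgLib.MaxSub.DecompMax CfsgLib.MaxSub.SymReal
open CfsgLib.MaxSub.SymEight (bd od cA coe_coordGL bd_mul bd_mul_od od_mul_bd od_mul bd_one bd_inj od_inj bd_smul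
  pairGL coe_pairGL dup coe_dup dup_injective half exists_pairGL_of_comm mem_normalizer_of_conj conj_mem)

variable {ι : Type} [Fintype ι] [DecidableEq ι] {F : Type*} [Field F] [Fintype F]
variable {R M : Subgroup (GL ι F)} {B : Matrix ι ι F} {k : ℕ}

/-- Coordinates adapted to two anticommuting involutions of the frame. -/
theorem exists_blocks (hR : RFrame R) (hB : Orth B) (hle : R ≤ isomM B) (hk : Fintype.card ι = 2 ^ k) (hk1 : 1 ≤ k)
    {x X : GL ι F} (hx : Sing R x) (hX : Sing R X) (hxX : Anti x X) :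
    ∃ (d : ℕ) (Φ : (ι → F) ≃ₗ[F] (Fin d ⊕ Fin d → F)) (B' : Matrix (Fin d) (Fin d) F),
      d = 2 ^ (k - 1) ∧ cA Φ (x : Matrix ι ι F) = bd 1 (-1) ∧ cA Φ (X : Matrix ι ι F) = od 1 1 ∧
      BlockR (R.map (coordGL Φ).toMonoidHom) ∧ Orth B' ∧ Orth (bd B' B') ∧
      (isomM B).map (coordGL Φ).toMonoidHom = isomM (bd B' B') := by
  obtain ⟨d, Φ, hd, h1, h2, hBR⟩ := hR.exists_blockR hx.mem hX.mem hx.sq hX.sq hxX
  obtain ⟨B₀, hB₀, hB₀s, -, hB₀u⟩ := exists_form_map B Φ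
  have hG : (isomM B).map (coordGL Φ).toMonoidHom = isomM B₀ := isomM_map Φ hB₀
  have hzB : coordGL Φ x ∈ isomM B₀ := hG ▸ Subgroup.mem_map_of_mem _ (hle hx.mem)
  have hXB : coordGL Φ X ∈ isomM B₀ := hG ▸ Subgroup.mem_map_of_mem _ (hle hX.mem)
  obtain ⟨B', rfl⟩ := block_form hB.two hzB hXB (by rw [coe_coordGL, h1]) (by rw [coe_coordGL, h2])
  have hd' : d = 2 ^ (k - 1) := by
    obtain ⟨j, rfl⟩ : ∃ j, k = j + 1 := ⟨k - 1, by omega⟩
    rw [hk, pow_succ] at hd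
    rw [show j + 1 - 1 = j by omega]; omega
  refine ⟨d, Φ, B', hd', h1, h2, hBR, ⟨hB.two, ?_, ?_⟩, ⟨hB.two, hB₀s hB.symm, hB₀u hB.unit⟩, hG⟩
  · have h := hB₀s hB.symm
    rw [show (bd B' B')ᵀ = bd B'ᵀ B'ᵀ by simp [bd, Matrix.fromBlocks_transpose]] at h
    exact (bd_inj h).1
  · obtain ⟨U, hU⟩ := hB₀u hB.unit
    have h1' := congrArg Matrix.toBlocks₁₁ (show (U : Matrix (Fin d ⊕ Fin d) (Fin d ⊕ Fin d) F) *
      ((U⁻¹ : GL (Fin d ⊕ Fin d) F) : Matrix (Fin d ⊕ Fin d) (Fin d ⊕ Fin d) F) = 1 from U.mul_inv)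
    rw [hU, bd, ← Matrix.fromBlocks_toBlocks ((U⁻¹ : GL (Fin d ⊕ Fin d) F) : Matrix (Fin d ⊕ Fin d) (Fin d ⊕ Fin d) F),
      ← Matrix.fromBlocks_one, Matrix.fromBlocks_multiply, Matrix.toBlocks_fromBlocks₁₁,
      Matrix.toBlocks_fromBlocks₁₁, Matrix.zero_mul, add_zero] at h1'
    rw [Matrix.isUnit_iff_isUnit_det]
    exact Matrix.isUnit_det_of_right_inverse h1'

/-- Closure under doubling. -/
theorem dup_mem (hR : RFrame R) (hB : Orth B) (hle : R ≤ isomM B) (hk : Fintype.card ι = 2 ^ k) (hk4 : 4 ≤ k)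
    (hNM : subgroupNormalizer R ⊓ comSub B ≤ M) (hMG : M ≤ comSub B) {x X g h : GL ι F} (hx : Sing R x)
    (hX : Sing R X) (hxX : Anti x X) (hg : g ∈ M) (hgx : Commute g x) (hh : h ∈ subgroupNormalizer R)
    (he : (h : Matrix ι ι F) = (2 : F)⁻¹ • ((g : Matrix ι ι F) * (1 + (x : Matrix ι ι F)) +
      (X : Matrix ι ι F) * (g : Matrix ι ι F) * (X : Matrix ι ι F) * (1 - (x : Matrix ι ι F)))) : h ∈ M := by
  obtain ⟨d, Φ, B', hd, h1, h2', hBR, hB', hB'', hG⟩ := exists_blocks hR hB hle hk (by omega) hx hX hxX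
  have hgc : cA Φ (g : Matrix ι ι F) * cA Φ (x : Matrix ι ι F) = cA Φ (x : Matrix ι ι F) * cA Φ (g : Matrix ι ι F) := by
    rw [← map_mul, ← map_mul, ← Units.val_mul, hgx.eq, Units.val_mul]
  obtain ⟨a, b, hab⟩ := exists_pairGL_of_comm hR.two (g := coordGL Φ g) (by rw [coe_coordGL, ← h1]; exact hgc)
  have hgB : pairGL (a, b) ∈ isomM (bd B' B') := by
    rw [← hab, ← hG]; exact Subgroup.mem_map_of_mem _ (comSub_le B (hMG hg))
  have hhd : coordGL Φ h = dup a := by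
    refine Units.ext ?_
    have hcg : cA Φ (g : Matrix ι ι F) = bd (a : Matrix (Fin d) (Fin d) F) (b : Matrix (Fin d) (Fin d) F) := by
      rw [← coe_coordGL, hab, coe_pairGL]
    rw [coe_coordGL, he, coe_dup, map_smul, map_add, map_mul, map_mul, map_mul, map_mul, map_add, map_sub, map_one,
      h1, h2', hcg]
    have ht : ∀ A : Matrix (Fin d) (Fin d) F, (2 : F)⁻¹ • (A + A) = A := fun A => by
      rw [← two_smul F A, smul_smul, inv_mul_cancel₀ hR.two, one_smul]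
    simp only [bd, od, ← Matrix.fromBlocks_one, Matrix.fromBlocks_add, sub_eq_add_neg,
      Matrix.fromBlocks_neg, Matrix.fromBlocks_multiply, Matrix.fromBlocks_smul, Matrix.mul_zero, Matrix.zero_mul,
      add_zero, zero_add, neg_zero, smul_zero, neg_neg, add_neg_cancel, Matrix.mul_add, Matrix.one_mul, Matrix.mul_one,
      ht]
  refine hNM ⟨hh, (map_mem_iff Φ).1 ?_⟩
  rw [comSub_map Φ hG, hhd]
  exact dup_mem_comSub hB'' (pairGL_mem_isomM.1 hgB).1

/-- The overgroup acts purely on the eigenspaces. -/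
theorem pure_of_small (hR : RFrame R) (hB : Orth B) (hle : R ≤ isomM B) (hk : Fintype.card ι = 2 ^ k) (hk4 : 4 ≤ k)
    (hNM : subgroupNormalizer R ⊓ comSub B ≤ M) (hMG : M ≤ comSub B)
    (hsmall : ∀ d ∈ R, ∀ d' ∈ R, d * d = -1 → d' * d' = -1 → Anti d d' →
      ∀ g ∈ M, Commute g d → Commute g d' → g ∈ subgroupNormalizer R)
    {x g q : GL ι F} (hx : Sing R x) (hg : g ∈ M) (hgx : Commute g x) (hq : q ∈ R) (hqx : Commute q x) :
    ∃ p ∈ R, ((g * q * g⁻¹ : GL ι F) : Matrix ι ι F) * (1 + (x : Matrix ι ι F)) =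
      (p : Matrix ι ι F) * (1 + (x : Matrix ι ι F)) := by
  classical
  have h2 := hR.two
  haveI : Finite (GL ι F) := Finite.of_injective (fun g => (g : Matrix ι ι F)) fun _ _ => Units.ext
  obtain ⟨X, hX, hxX⟩ := hR.exists_pair hx
  obtain ⟨d, Φ, B', hd, h1, h2', hBR, hB', hB'', hG⟩ := exists_blocks hR hB hle hk (by omega) hx hX hxX
  haveI : Finite (GL (Fin d) F) := Finite.of_injective (fun g => (g : Matrix (Fin d) (Fin d) F)) fun _ _ => Units.ext
  haveI := hBR.half_frame.nonempty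
  obtain ⟨R₀, hR₀⟩ : ∃ R₀, R₀ = R.map (coordGL Φ).toMonoidHom := ⟨_, rfl⟩
  obtain ⟨M₀, hM₀⟩ : ∃ M₀, M₀ = M.map (coordGL Φ).toMonoidHom := ⟨_, rfl⟩
  rw [← hR₀] at hBR
  have hM₀G : M₀ ≤ isomM (bd B' B') := by
    rw [hM₀, ← hG]; exact Subgroup.map_mono (hMG.trans (comSub_le B))
  have hR₀G : R₀ ≤ isomM (bd B' B') := by rw [hR₀, ← hG]; exact Subgroup.map_mono hle
  have hNM₀ : ∀ u, u ∈ subgroupNormalizer R₀ → u ∈ comSub (bd B' B') → u ∈ M₀ := by
    intro u hu hu'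
    obtain ⟨u, rfl⟩ := (coordGL Φ).surjective u
    rw [hR₀, mem_normalizer_map] at hu
    rw [← comSub_map Φ hG, map_mem_iff] at hu'
    rw [hM₀, map_mem_iff]
    exact hNM ⟨hu, hu'⟩
  have hcard : Fintype.card (Fin d ⊕ Fin d) = 2 ^ k := by
    rw [Fintype.card_sum, Fintype.card_fin, hd, ← two_mul, ← pow_succ']
    congr 1
    omega
  have hhalf : half R₀ ≤ isomM B' := fun a ha => dup_mem_isomM.1 (hR₀G ha)
  obtain ⟨z, hz, hzm⟩ := hBR.memZ
  obtain ⟨y, hy, hym⟩ := hBR.memX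
  have hzz : z * z = 1 := (pairGL_one_eq h2 hzm (1 : GL (Fin d) F)).1
  have hzs : Sing R₀ z := by
    have hez : coordGL Φ x = z := Units.ext (by rw [coe_coordGL, h1, hzm])
    rw [← hez, hR₀]; exact (sing_map Φ).2 hx
  obtain ⟨K, hK⟩ : ∃ K, K = M₀.comap (pairGL.comp (MonoidHom.inl (GL (Fin d) F) (GL (Fin d) F))) := ⟨_, rfl⟩
  have hKm : ∀ a, a ∈ K ↔ pairGL (a, 1) ∈ M₀ := fun a => by rw [hK]; exact Iff.rfl
  have hRK : half R₀ ≤ K := by
    intro a ha
    obtain ⟨-, hc, he⟩ := pairGL_one_eq h2 hzm a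
    have hin : pairGL (1, a) ∈ M₀ := by
      rw [he]
      exact hNM₀ _ (hBR.frame.ctrl_mem_normalizer hzs.mem ha hzz hc)
        (ctrl_mem_comSub hBR.frame hB'' hR₀G hcard hk4 hzs ha hc)
    have hyM : y ∈ M₀ := hNM₀ _ (hBR.frame.le_normalizer hy) (frame_le_comSub hBR.frame hB'' hR₀G hcard hk4 hy)
    have e : y * pairGL (1, a) * y = pairGL (a, 1) := by
      refine Units.ext ?_
      rw [Units.val_mul, Units.val_mul, coe_pairGL, coe_pairGL, hym, od_mul_bd, od_mul]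
      simp
    rw [hKm, ← e]
    exact mul_mem (mul_mem hyM hin) hyM
  have hconj : ∀ n ∈ subgroupNormalizer (half R₀), n ∈ isomM B' → ∀ c ∈ K, n * c * n⁻¹ ∈ K := by
    intro n hn hnB c hc
    have hnM : dup n ∈ M₀ := hNM₀ _ (hBR.dup_mem_normalizer hn) (dup_mem_comSub hB'' hnB)
    rw [hKm] at hc ⊢
    have e : pairGL (n * c * n⁻¹, 1) = dup n * pairGL (c, 1) * (dup n)⁻¹ := by
      show _ = pairGL (n, n) * _ * (pairGL (n, n))⁻¹
      rw [← map_inv, ← map_mul, ← map_mul]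
      simp
    rw [e]
    exact mul_mem (mul_mem hnM hc) (inv_mem hnM)
  have hA : ∀ c ∈ K, ∀ e ∈ half R₀, ∀ e' ∈ half R₀, e * e = -1 → e' * e' = -1 → Anti e e' → Commute c e →
      Commute c e' → c ∈ half R₀ := by
    intro c hc e he e' he' hee he'e' han hce hce'
    obtain ⟨u, hu, hue⟩ : ∃ u ∈ R, coordGL Φ u = dup e := by
      obtain ⟨u, hu, hue⟩ : dup e ∈ R.map (coordGL Φ).toMonoidHom := hR₀ ▸ he
      exact ⟨u, hu, hue⟩
    obtain ⟨u', hu', hue'⟩ : ∃ u' ∈ R, coordGL Φ u' = dup e' := by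
      obtain ⟨u, hu, hue⟩ : dup e' ∈ R.map (coordGL Φ).toMonoidHom := hR₀ ▸ he'
      exact ⟨u, hu, hue⟩
    have hcp : ∀ {e : GL (Fin d) F}, Commute c e → Commute (pairGL (c, 1)) (dup e) := fun {e} h => by
      show pairGL (c, 1) * pairGL (e, e) = pairGL (e, e) * pairGL (c, 1)
      rw [← map_mul, ← map_mul, Prod.mk_mul_mk, Prod.mk_mul_mk, h.eq, one_mul, mul_one]
    obtain ⟨w, hw, hwe⟩ : ∃ w ∈ M, coordGL Φ w = pairGL (c, 1) := by
      rw [hKm, hM₀] at hc
      obtain ⟨w, hw, e⟩ := hc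
      exact ⟨w, hw, e⟩
    have hwN := hsmall u hu u' hu'
      ((coordGL Φ).injective (by rw [map_mul, hue, ← map_mul, hee, coordGL_neg, map_one, dup_neg, map_one]))
      ((coordGL Φ).injective (by rw [map_mul, hue', ← map_mul, he'e', coordGL_neg, map_one, dup_neg, map_one]))
      ((coordGL_anti_iff Φ).1 (by rw [hue, hue']; exact dup_anti han)) w hw
      ((commute_coordGL Φ).1 (by rw [hwe, hue]; exact hcp hce))
      ((commute_coordGL Φ).1 (by rw [hwe, hue']; exact hcp hce'))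
    have hg0 : pairGL (c, 1) ∈ subgroupNormalizer R₀ := by
      rw [hR₀, ← hwe, mem_normalizer_map]; exact hwN
    have hin := R₀.mul_mem (conj_mem hg0 hy) hy
    obtain ⟨v, hv, e⟩ := hBR.decomp hin
    have hval : ((pairGL (c, 1) * y * (pairGL (c, 1))⁻¹ * y : GL (Fin d ⊕ Fin d) F) :
        Matrix _ _ F) = bd (c : Matrix (Fin d) (Fin d) F) ((c⁻¹ : GL (Fin d) F) : Matrix (Fin d) (Fin d) F) := by
      rw [← map_inv]
      simp only [Units.val_mul, coe_pairGL, Prod.inv_mk, hym, bd_mul_od, od_mul_bd, od_mul, inv_one, Units.val_one,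
        Matrix.mul_one, Matrix.one_mul]
    rw [hval] at e
    have hne : (c : Matrix (Fin d) (Fin d) F) ≠ 0 := c.ne_zero
    have hcv : c = v := by
      refine Units.ext ?_
      rcases e with e | e | e | e
      · exact (bd_inj e).1
      · exact (bd_inj e).1
      · rw [bd, od] at e; exact absurd ((Matrix.fromBlocks_inj).1 e).1 hne
      · rw [bd, od] at e; exact absurd ((Matrix.fromBlocks_inj).1 e).1 hne
    exact hcv ▸ hv
  have hKR := kernel_le hBR.half_frame hB' hhalf (show Fintype.card (Fin d) = 2 ^ (k - 1) by rw [Fintype.card_fin, hd])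
    (by omega) hRK hconj hA
  have hgc : cA Φ (g : Matrix ι ι F) * cA Φ (x : Matrix ι ι F) = cA Φ (x : Matrix ι ι F) * cA Φ (g : Matrix ι ι F) := by
    rw [← map_mul, ← map_mul, ← Units.val_mul, hgx.eq, Units.val_mul]
  obtain ⟨a, b, hab⟩ := exists_pairGL_of_comm h2 (g := coordGL Φ g) (by rw [coe_coordGL, ← h1]; exact hgc)
  have hgM : pairGL (a, b) ∈ M₀ := by rw [← hab, hM₀]; exact Subgroup.mem_map_of_mem _ hg
  obtain ⟨w, hw, e⟩ := hBR.decomp (hR₀ ▸ Subgroup.mem_map_of_mem (coordGL Φ).toMonoidHom hq : coordGL Φ q ∈ R₀)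
  have hwq : cA Φ (q : Matrix ι ι F) * (1 + cA Φ (x : Matrix ι ι F)) =
      bd ((w : Matrix (Fin d) (Fin d) F) + (w : Matrix (Fin d) (Fin d) F)) 0 ∧ ∃ v : Matrix (Fin d) (Fin d) F,
        cA Φ (q : Matrix ι ι F) = bd (w : Matrix (Fin d) (Fin d) F) v := by
    have c1 : cA Φ (q : Matrix ι ι F) * cA Φ (x : Matrix ι ι F) = cA Φ (x : Matrix ι ι F) * cA Φ (q : Matrix ι ι F) := by
      rw [← map_mul, ← map_mul, ← Units.val_mul, hqx.eq, Units.val_mul]
    rw [← coe_coordGL, h1] at c1 ⊢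
    have hz0 : ∀ A : Matrix (Fin d) (Fin d) F, A = -A → A = 0 := fun A h => by
      have : (2 : F) • A = 0 := by rw [two_smul]; nth_rewrite 1 [h]; exact neg_add_cancel _
      exact (smul_eq_zero.1 this).resolve_left h2
    have hfin : ∀ v : Matrix (Fin d) (Fin d) F, bd (w : Matrix (Fin d) (Fin d) F) v * (1 + bd 1 (-1)) =
        bd ((w : Matrix (Fin d) (Fin d) F) + (w : Matrix (Fin d) (Fin d) F)) 0 := fun v => by
      simp [bd, ← Matrix.fromBlocks_one, Matrix.fromBlocks_add, Matrix.fromBlocks_multiply, Matrix.mul_add]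
    rcases e with e | e | e | e <;> rw [e] at c1 ⊢
    · exact ⟨hfin _, _, rfl⟩
    · exact ⟨hfin _, _, rfl⟩
    all_goals
      simp only [bd_mul_od, od_mul_bd, Matrix.one_mul, Matrix.mul_one, Matrix.neg_mul, Matrix.mul_neg] at c1
    · exact absurd (hz0 _ (od_inj c1).1.symm) w.ne_zero
    · exact absurd (hz0 _ (od_inj c1).1.symm) w.ne_zero
  obtain ⟨-, v, hqv⟩ := hwq
  have hw' : a * w * a⁻¹ ∈ half R₀ := by
    refine hKR ?_
    rw [hKm]
    have e : pairGL (a * w * a⁻¹, 1) = pairGL (a, b) * pairGL (w, 1) * (pairGL (a, b))⁻¹ := by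
      rw [← map_inv, ← map_mul, ← map_mul]
      simp
    rw [e]
    exact mul_mem (mul_mem hgM ((hKm w).1 (hRK hw))) (inv_mem hgM)
  obtain ⟨p, hp, hpe⟩ : ∃ p ∈ R, coordGL Φ p = dup (a * w * a⁻¹) := by
    obtain ⟨u, hu, hue⟩ : dup (a * w * a⁻¹) ∈ R.map (coordGL Φ).toMonoidHom := hR₀ ▸ hw'
    exact ⟨u, hu, hue⟩
  refine ⟨p, hp, (cA Φ).injective ?_⟩
  rw [map_mul, map_mul, map_add, map_one, h1, ← coe_coordGL, ← coe_coordGL, hpe, map_mul, map_mul, map_inv, hab,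
    ← map_inv, Units.val_mul, Units.val_mul, coe_pairGL, coe_pairGL, coe_coordGL, hqv, coe_dup]
  simp [bd, ← Matrix.fromBlocks_one, Matrix.fromBlocks_add, Matrix.fromBlocks_multiply, Matrix.mul_add,
    Units.val_mul, Matrix.mul_assoc]

/-- `Ω` does not normalise the frame. -/
theorem not_comSub_le (hp : (Fintype.card F).Prime) (hex : ¬ Fintype.card F = 2) (hR : RFrame R) (hB : Orth B)
    (hle : R ≤ isomM B) (hk : Fintype.card ι = 2 ^ k) (hk4 : 4 ≤ k) : ¬ comSub B ≤ subgroupNormalizer R := by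
  intro hall
  haveI : Finite (GL ι F) := Finite.of_injective (fun g => (g : Matrix ι ι F)) fun _ _ => Units.ext
  obtain ⟨d, hd, d', hd', hdd, hd'd', hdd'⟩ := exists_quat_pair hR hB hle hk (by omega)
  obtain ⟨m, Φ, R', α, β, hm, hR', hR'S, hnb, hG, -, -, -, hR'm, -, -⟩ :=
    exists_split hR hB hle hk (by omega) hd hd' hdd hd'd' hdd'
  have hm8 : 8 ≤ 2 * m := by
    rw [hm]; exact (show (8 : ℕ) = 2 ^ 3 by norm_num) ▸ Nat.pow_le_pow_right (by norm_num) (by omega)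
  haveI : Finite (GL (Fin m ⊕ Fin m) F) :=
    Finite.of_injective (fun g => (g : Matrix (Fin m ⊕ Fin m) (Fin m ⊕ Fin m) F)) fun _ _ => Units.ext
  refine (CfsgLib.MaxSub.SpExtra.maximal hp hex (show 3 ≤ k - 1 by omega) m R' hm hR' hR'S hnb).1.ne
    (le_antisymm inf_le_right fun a ha => ⟨mem_normalizer_of_conj fun b hb => ?_, ha⟩)
  obtain ⟨g, hg⟩ := (coordGL Φ).surjective (dup a)
  have hgC : g ∈ comSub B := (map_mem_iff Φ).1 (by
    rw [comSub_map Φ (show (isomM B).map (coordGL Φ).toMonoidHom = isomM (ssMat m F) from hG), hg]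
    exact dup_spGL_le_comSub (by omega) ha)
  have hN : dup a ∈ subgroupNormalizer (R.map (coordGL Φ).toMonoidHom) :=
    hg ▸ (mem_normalizer_map Φ).2 (hall hgC)
  rw [hR'm, map_mul, map_mul, map_inv]
  exact conj_mem hN ((hR'm b).1 hb)

/-- The normaliser of a real frame of isometries is maximal in `Ω`. -/
theorem maximal (hp : (Fintype.card F).Prime) (hex : ¬ Fintype.card F = 2) (hR : RFrame R) (hB : Orth B)
    (hle : R ≤ isomM B) (hk : Fintype.card ι = 2 ^ k) (hk4 : 4 ≤ k) :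
    IsMaximalIn (comSub B) (subgroupNormalizer R ⊓ comSub B) := by
  classical
  have h2 := hR.two
  haveI : Finite (GL ι F) := Finite.of_injective (fun g => (g : Matrix ι ι F)) fun _ _ => Units.ext
  have hnot := not_comSub_le hp hex hR hB hle hk hk4
  refine ⟨lt_of_le_of_ne inf_le_right fun he => hnot (he.ge.trans inf_le_left), fun M hNM hMG => ?_⟩
  by_cases hbig : comSub B ≤ M
  · exact Or.inr (le_antisymm hMG hbig)
  refine Or.inl (le_antisymm (le_inf ?_ hMG) hNM)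
  have hsmall : ∀ e ∈ R, ∀ e' ∈ R, e * e = -1 → e' * e' = -1 → Anti e e' →
      ∀ g ∈ M, Commute g e → Commute g e' → g ∈ subgroupNormalizer R := fun e he e' he' hee he'e' han =>
    ((mem_normalizer_or_eq hp hex hR hB hle hk hk4 hNM hMG he he' hee he'e' han).resolve_right hbig).1
  refine Over.le_normalizer (R := R) ⟨hR, ⟨k, hk4, hk⟩,
    fun r hr => hNM ⟨hR.le_normalizer hr, frame_le_comSub hR hB hle hk hk4 hr⟩, ?_, ?_, ?_, ?_⟩
  · intro x q hx hq hc
    exact hNM ⟨hR.ctrl_mem_normalizer hx.mem hq hx.sq hc, ctrl_mem_comSub hR hB hle hk hk4 hx hq hc⟩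
  · intro x X g h hx hX hxX hg hgx hh he
    exact dup_mem hR hB hle hk hk4 hNM hMG hx hX hxX hg hgx hh he
  · intro x q h hx hq hc hh l he
    exact scal_of_isomM h2 (hle hx.mem) hx.sq hx.ne_one (hle hq) hc (comSub_le B (hMG hh)) hB.unit he
  · intro x g q hx hg hgx hq hqx
    exact pure_of_small hR hB hle hk hk4 hNM hMG hsmall hx hg hgx hq hqx

end CfsgLib.MaxSub.OmExtra
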