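import Cfsg.Agent.Lib.MaxSub.SymReal.Main
import Cfsg.Agent.Lib.MaxSub.SymReal.Form
import Cfsg.Agent.Lib.MaxSub.IsoTwo

/-!
The commutator subgroup of the isometry group of a symmetric matrix: squares, block doubles, real frames and
their elementary elements.
-/

set_option autoImplicit false
set_option linter.unusedSectionVars false
set_option linter.unusedSimpArgs false
set_option linter.style.haveILetI false

namespace CfsgLib.MaxSub.OmExtra

open scoped MatrixGroups commutatorElement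
open Cfsg.Geo Matrix CfsgLib.MaxSub.DecompMax CfsgLib.MaxSub.SymReal CfsgLib.Geom
open CfsgLib.MaxSub.SymEight (bd od cA coe_coordGL cA_mulVec cA_ext bd_mul bd_mul_od od_mul_bd od_mul bd_one
  bd_neg bd_inj od_inj pairGL coe_pairGL dup coe_dup half)

variable {ι κ : Type} [Fintype ι] [DecidableEq ι] [Fintype κ] [DecidableEq κ] {F : Type*} [Field F]

/-- The commutator subgroup of the isometries of `B`. -/
def comSub (B : Matrix ι ι F) : Subgroup (GL ι F) := ⁅isomM B, isomM B⁆

theorem comSub_le (B : Matrix ι ι F) : comSub B ≤ isomM B :=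
  Subgroup.commutator_le_self _

theorem comSub_map {B : Matrix ι ι F} {B' : Matrix κ κ F} (Φ : (ι → F) ≃ₗ[F] (κ → F))
    (h : (isomM B).map (coordGL Φ).toMonoidHom = isomM B') :
    (comSub B).map (coordGL Φ).toMonoidHom = comSub B' := by
  rw [comSub, comSub, Subgroup.map_commutator, h]

/-- The isometry group of a quadratic form with polar matrix `B`. -/
theorem isometryGroup_eq {Q : QuadraticForm F (ι → F)} {B : Matrix ι ι F} (h2 : (2 : F) ≠ 0)
    (hB : ∀ u v, form B u v = QuadraticMap.polar Q u v) : Cfsg.isometryGroup F (⇑Q) = isomM B := by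
  have hQ : ∀ v, (2 : F) * Q v = form B v v := fun v => by
    rw [hB, QuadraticMap.polar_self, nsmul_eq_mul, Nat.cast_ofNat]
  ext g
  rw [mem_isomM_form]
  constructor
  · intro hg u v
    have hg' : ∀ w, Q ((g : Matrix ι ι F) *ᵥ w) = Q w := fun w => hg w w
    rw [hB, hB, QuadraticMap.polar, QuadraticMap.polar, ← Matrix.mulVec_add, hg', hg', hg']
  · intro hg u v
    exact mul_left_cancel₀ h2 (by rw [show ((Units.coeHom (Matrix ι ι F)) g) = (g : Matrix ι ι F) from rfl, hQ, hQ, hg])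

theorem omegaGL_eq {Q : QuadraticForm F (ι → F)} {B : Matrix ι ι F} (h2 : (2 : F) ≠ 0)
    (hB : ∀ u v, form B u v = QuadraticMap.polar Q u v) : Cfsg.Geo.omegaGL (⇑Q) = comSub B := by
  show (commutator (Cfsg.isometryGroup F (⇑Q))).map (Cfsg.isometryGroup F (⇑Q)).subtype = _
  rw [commutator_def, Subgroup.map_commutator, ← MonoidHom.range_eq_map, Subgroup.range_subtype,
    isometryGroup_eq h2 hB]
  rfl

/-- The quadratic form of a symmetric matrix. -/
theorem exists_quadForm (h2 : (2 : F) ≠ 0) {B : Matrix ι ι F} (hB : Bᵀ = B) :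
    ∃ Q : QuadraticForm F (ι → F), ∀ u v, form B u v = QuadraticMap.polar Q u v := by
  refine ⟨((2 : F)⁻¹ • B).toQuadraticMap', fun u v => ?_⟩
  have e : ∀ w, ((2 : F)⁻¹ • B).toQuadraticMap' w = (2 : F)⁻¹ * form B w w := fun w => by
    simp [Matrix.toQuadraticForm', Matrix.toQuadraticMap', LinearMap.BilinMap.toQuadraticMap_apply,
      Matrix.toLinearMap₂'_apply', form, smul_mulVec, dotProduct_smul]
  have hs : form B v u = form B u v := by
    rw [form, form, dotProduct_mulVec, dotProduct_comm, ← mulVec_transpose, hB]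
  have hadd : form B (u + v) (u + v) = form B u u + form B v v + (2 : F) * form B u v := by
    simp only [form] at hs ⊢
    simp only [mulVec_add, add_dotProduct, dotProduct_add]
    linear_combination hs
  rw [QuadraticMap.polar, e, e, e, hadd]
  field_simp
  ring

theorem sep_of_isUnit {B : Matrix ι ι F} (hu : IsUnit B) {Q : QuadraticForm F (ι → F)}
    (hB : ∀ u v, form B u v = QuadraticMap.polar Q u v) :
    ∀ x, (∀ y, QuadraticMap.polar Q x y = 0) → x = 0 := by
  intro x hx
  obtain ⟨U, rfl⟩ := hu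
  funext i
  have := hx (((U⁻¹ : GL ι F) : Matrix ι ι F) *ᵥ Pi.single i 1)
  rw [← hB, form, mulVec_mulVec, ← Units.val_mul, mul_inv_cancel, Units.val_one, one_mulVec] at this
  simpa using this

/-- The data: an invertible symmetric matrix in odd characteristic. -/
structure Orth (B : Matrix ι ι F) : Prop where
  two : (2 : F) ≠ 0
  symm : Bᵀ = B
  unit : IsUnit B

variable [Fintype F]

/-- Squares of isometries lie in the commutator subgroup. -/
theorem sq_mem_comSub {B : Matrix ι ι F} (hB : Orth B) {u : GL ι F} (hu : u ∈ isomM B) : u * u ∈ comSub B := by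
  obtain ⟨Q, hQ⟩ := exists_quadForm hB.two hB.symm
  rw [← isometryGroup_eq hB.two hQ] at hu
  rw [← omegaGL_eq hB.two hQ]
  exact Subgroup.mem_map_of_mem (Cfsg.isometryGroup F (⇑Q)).subtype
    (IsoTwo.sq_mem_omega (sep_of_isUnit hB.unit hQ) hB.two ⟨u, hu⟩)

theorem commutator_mem_comSub {B : Matrix ι ι F} {a b : GL ι F} (ha : a ∈ isomM B) (hb : b ∈ isomM B) :
    a * b * a⁻¹ * b⁻¹ ∈ comSub B := by
  rw [← commutatorElement_def]; exact Subgroup.commutator_mem_commutator ha hb

theorem conj_mem_comSub {B : Matrix ι ι F} {a u : GL ι F} (ha : a ∈ isomM B) (hu : u ∈ comSub B) :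
    a * u * a⁻¹ ∈ comSub B := by
  have e : a * u * a⁻¹ = a * u * a⁻¹ * u⁻¹ * u := by group
  rw [e]
  exact mul_mem (commutator_mem_comSub ha (comSub_le B hu)) hu

/-- An element and its image under an involution: their product is a square times a commutator. -/
theorem mul_conj_mem_comSub {B : Matrix ι ι F} (hB : Orth B) {u X : GL ι F} (hu : u ∈ isomM B) (hX : X ∈ isomM B) :
    u * (X * u * X⁻¹) ∈ comSub B := by
  have e : u * (X * u * X⁻¹) = u * u * (u⁻¹ * X * u⁻¹⁻¹ * X⁻¹) := by group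
  rw [e]
  exact mul_mem (sq_mem_comSub hB hu) (commutator_mem_comSub (inv_mem hu) hX)

section frame

variable {R : Subgroup (GL ι F)} {B : Matrix ι ι F} (hR : RFrame R) (hB : Orth B) (hle : R ≤ isomM B)
  {k : ℕ} (hk : Fintype.card ι = 2 ^ k) (hk4 : 4 ≤ k)
include hR hB hle hk hk4

/-- A non-central involution commuting with five given elements. -/
theorem exists_sing_comm {a b c d e : GL ι F} (ha : a ∈ R) (hb : b ∈ R) (hc : c ∈ R) (hd : d ∈ R) (he : e ∈ R) :
    ∃ y, Sing R y ∧ Commute y a ∧ Commute y b ∧ Commute y c ∧ Commute y d ∧ Commute y e := by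
  classical
  haveI : Finite (GL ι F) := Finite.of_injective (fun g => (g : Matrix ι ι F)) fun _ _ => Units.ext
  have hstep : ∀ S : Subgroup (GL ι F), S ≤ R → ∀ c ∈ R,
      Nat.card S ≤ 2 * Nat.card (S ⊓ Subgroup.centralizer {c} : Subgroup (GL ι F)) := fun S hS c hc => by
    refine card_le_two_mul inf_le_left fun x hx y hy hx' hy' => ⟨S.mul_mem hx hy, ?_⟩
    have hanti : ∀ w ∈ S, w ∉ S ⊓ Subgroup.centralizer {c} → Anti w c := fun w hw hw' =>
      (hR.comm w (hS hw) c hc).resolve_left fun hwc => hw' ⟨hw, Subgroup.mem_centralizer_iff.2 fun z hz => by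
        rw [Set.mem_singleton_iff.1 hz]; exact hwc.eq.symm⟩
    exact Subgroup.mem_centralizer_iff.2 fun z hz => by
      rw [Set.mem_singleton_iff.1 hz]
      exact ((hanti x hx hx').mul_anti_left (hanti y hy hy')).eq.symm
  obtain ⟨S1, rfl⟩ : ∃ S, S = R ⊓ Subgroup.centralizer {a} := ⟨_, rfl⟩
  have l1 : R ⊓ Subgroup.centralizer {a} ≤ R := inf_le_left
  have l2 : R ⊓ Subgroup.centralizer {a} ⊓ Subgroup.centralizer {b} ≤ R := inf_le_left.trans l1
  have l3 : R ⊓ Subgroup.centralizer {a} ⊓ Subgroup.centralizer {b} ⊓ Subgroup.centralizer {c} ≤ R := inf_le_left.trans l2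
  have l4 : R ⊓ Subgroup.centralizer {a} ⊓ Subgroup.centralizer {b} ⊓ Subgroup.centralizer {c} ⊓
      Subgroup.centralizer {d} ≤ R := inf_le_left.trans l3
  have h1 := hstep R le_rfl a ha
  have h2 := hstep _ l1 b hb
  have h3 := hstep _ l2 c hc
  have h4 := hstep _ l3 d hd
  have h5 := hstep _ l4 e he
  have h6 := hR.card_pow hk
  have h7 : 2 ^ 9 ≤ 2 ^ (2 * k + 1) := Nat.pow_le_pow_right (by norm_num) (by omega)
  obtain ⟨y, hy, hys⟩ := hR.exists_sing_of_card (S := R ⊓ Subgroup.centralizer {a} ⊓ Subgroup.centralizer {b} ⊓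
    Subgroup.centralizer {c} ⊓ Subgroup.centralizer {d} ⊓ Subgroup.centralizer {e}) (inf_le_left.trans l4) (by omega)
  exact ⟨y, hys, (Subgroup.mem_centralizer_iff.1 hy.1.1.1.1.2 a rfl).symm,
    (Subgroup.mem_centralizer_iff.1 hy.1.1.1.2 b rfl).symm, (Subgroup.mem_centralizer_iff.1 hy.1.1.2 c rfl).symm,
    (Subgroup.mem_centralizer_iff.1 hy.1.2 d rfl).symm, (Subgroup.mem_centralizer_iff.1 hy.2 e rfl).symm⟩

/-- An element of the frame is a commutator of isometries commuting with a given commuting element. -/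
theorem exists_commutator {q x : GL ι F} (hq : q ∈ R) (hx : x ∈ R) (hqx : Commute q x) (hne : ¬ Sgn q 1)
    (hnx : ¬ Sgn (x * q) 1) :
    ∃ a b, a ∈ isomM B ∧ b ∈ isomM B ∧ Commute x a ∧ Commute x b ∧ a * b * a⁻¹ * b⁻¹ = q := by
  have hqne : q ≠ 1 ∧ q ≠ -1 := ⟨fun e => hne (Or.inl e), fun e => hne (Or.inr e)⟩
  have hxq : x * q ≠ 1 ∧ x * q ≠ -1 := ⟨fun e => hnx (Or.inl e), fun e => hnx (Or.inr e)⟩
  obtain ⟨c₁, hc₁, hc₁q⟩ := hR.exists_anti hq hqne.1 hqne.2
  obtain ⟨c₂, hc₂, hc₂q⟩ := hR.exists_anti (R.mul_mem hx hq) hxq.1 hxq.2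
  obtain ⟨c₃, hc₃, hc₃x⟩ : ∃ c ∈ R, Sgn x 1 ∨ Anti c x := by
    by_cases h : Sgn x 1
    · exact ⟨1, R.one_mem, Or.inl h⟩
    · obtain ⟨c, hc, hcx⟩ := hR.exists_anti hx (fun e => h (Or.inl e)) (fun e => h (Or.inr e))
      exact ⟨c, hc, Or.inr hcx⟩
  obtain ⟨y, hy, hyq, hyx, hy1, hy2, hy3⟩ := exists_sing_comm hR hB hle hk hk4 hq hx hc₁ hc₂ hc₃
  have hno : ∀ {t c : GL ι F}, Commute y c → Anti c t → ¬ Sgn y t := fun hyc hct h => by
    rcases h with rfl | rfl
    · exact hR.not_anti hyc.symm hct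
    · exact hR.not_anti hyc.symm hct.neg_right
  have hys : ∀ {t : GL ι F}, t * y = 1 ∨ t * y = -1 → Sgn y t := fun {t} h => by
    rcases h with h | h
    · exact Or.inl (by rw [eq_inv_of_mul_eq_one_left h, inv_eq_of_mul_eq_one_right hy.sq])
    · refine Or.inr ?_
      have e := congrArg (fun w => w * y) h
      simp only [mul_assoc, hy.sq, mul_one, neg_mul, one_mul] at e
      rw [e, neg_neg]
  have hxy : ¬ (x * y = 1 ∨ x * y = -1) := fun h => by
    rcases hc₃x with h' | h'
    · exact ((hys h).trans h').elim hy.ne_one hy.ne_neg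
    · exact hno hy3 h' (hys h)
  obtain ⟨n, hn⟩ : ∃ n, n = ctrl y q := ⟨_, rfl⟩
  have hnB : n ∈ isomM B := hn ▸ ctrl_mem_isomM hR.two (hle hy.mem) hy.sq (hle hq) hyq
  have hxn : Commute x n := by
    rw [hn]
    exact commute_ctrl hR.two hy.sq hyq hyx.symm hqx.symm
  rcases hR.sq q hq with hqq | hqq
  · obtain ⟨w, hw, hwx, hwq, hwy⟩ := hR.exists_sign₃ hx hq hy.mem hy.ne_one hy.ne_neg
      (fun e => hxy (Or.inl e)) (fun e => hxy (Or.inr e)) (fun e => hno hy1 hc₁q (hys (Or.inl e)))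
      (fun e => hno hy1 hc₁q (hys (Or.inr e)))
      (fun e => hno hy2 hc₂q (hys (Or.inl (by rw [mul_assoc]; exact e))))
      (fun e => hno hy2 hc₂q (hys (Or.inr (by rw [mul_assoc]; exact e))))
    refine ⟨n, w, hnB, hle hw, hxn, hwx.symm, ?_⟩
    rw [hn, (ctrl_conj_C hR.two hy.sq hyq hwy hwq).1 hqq, ← hwq.eq.symm, mul_inv_cancel_right]
  · have hqy : q * y * y = q := by rw [mul_assoc, hy.sq, mul_one]
    obtain ⟨w, hw, hwx, hwqy, hwy⟩ := hR.exists_sign₃ hx (R.mul_mem hq hy.mem) hy.mem hy.ne_one hy.ne_neg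
      (fun e => hxy (Or.inl e)) (fun e => hxy (Or.inr e)) (by rw [hqy]; exact hqne.1) (by rw [hqy]; exact hqne.2)
      (by rw [hqy]; exact hxq.1) (by rw [hqy]; exact hxq.2)
    have hwq : Anti w q := by
      have := Anti.comm_mul_right hwqy hwy
      rwa [hqy] at this
    refine ⟨n, w, hnB, hle hw, hxn, hwx.symm, ?_⟩
    rw [hn, (ctrl_conj_D hR.two hy.sq hyq hwy hwq).2 hqq, hwq, neg_neg, mul_inv_cancel_right]

theorem neg_one_mem_comSub : (-1 : GL ι F) ∈ comSub B := by
  obtain ⟨x, hx⟩ := hR.exists_sing (by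
    rw [hk]; exact (show (4 : ℕ) = 2 ^ 2 by norm_num) ▸ Nat.pow_le_pow_right (by norm_num) (by omega))
  obtain ⟨X, hX, hxX⟩ := hR.exists_pair hx
  have := commutator_mem_comSub (B := B) (hle hx.mem) (hle hX.mem)
  rwa [hxX, neg_mul, neg_mul, mul_inv_cancel_right, mul_inv_cancel] at this

/-- The frame lies in the commutator subgroup. -/
theorem frame_le_comSub : R ≤ comSub B := by
  intro q hq
  by_cases h : Sgn q 1
  · rcases h with rfl | rfl
    · exact one_mem _
    · exact neg_one_mem_comSub hR hB hle hk hk4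
  · obtain ⟨a, b, ha, hb, -, -, e⟩ := exists_commutator hR hB hle hk hk4 hq R.one_mem (Commute.one_right q) h
      (by rwa [one_mul])
    exact e ▸ commutator_mem_comSub ha hb

/-- So do the elementary elements. -/
theorem ctrl_mem_comSub {x q : GL ι F} (hx : Sing R x) (hq : q ∈ R) (hc : Commute x q) : ctrl x q ∈ comSub B := by
  have h2 := hR.two
  have hmat : ∀ {p : GL ι F}, Commute x p → (ctrl x p : Matrix ι ι F) = ctrlM (x : Matrix ι ι F) (p : Matrix ι ι F) :=
    fun h => ctrl_val h2 hx.sq h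
  by_cases h1 : Sgn q 1
  · rcases h1 with rfl | rfl
    · rw [show ctrl x (1 : GL ι F) = 1 from Units.ext (by rw [hmat (Commute.one_right x), Units.val_one, ctrlM_one h2])]
      exact one_mem _
    · rw [ctrl_neg_one h2 hx.sq]
      exact frame_le_comSub hR hB hle hk hk4 hx.mem
  by_cases h3 : Sgn (x * q) 1
  · have e : ctrl x q = x ∨ ctrl x q = 1 := by
      have hq' : q = x ∨ q = -x := by
        rcases h3 with h | h
        · exact Or.inl (by rw [eq_inv_of_mul_eq_one_right h, inv_eq_of_mul_eq_one_right hx.sq])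
        · refine Or.inr ?_
          have e := congrArg (fun w => x * w) h
          simp only [← mul_assoc, hx.sq, one_mul, mul_neg, mul_one] at e
          exact e
      have hxm : (x : Matrix ι ι F) * (x : Matrix ι ι F) = 1 := by rw [← Units.val_mul, hx.sq, Units.val_one]
      rcases hq' with e' | e'
      · rw [e'] at hc ⊢
        refine Or.inl (Units.ext ?_)
        rw [hmat hc, ctrlM]
        have : (1 - (x : Matrix ι ι F)) * x = -(1 - (x : Matrix ι ι F)) := by rw [sub_mul, one_mul, hxm, neg_sub]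
        rw [this, show (1 : Matrix ι ι F) + x + -(1 - (x : Matrix ι ι F)) = (2 : F) • (x : Matrix ι ι F) by
          rw [two_smul]; abel, smul_smul, inv_mul_cancel₀ h2, one_smul]
      · rw [e'] at hc ⊢
        refine Or.inr (Units.ext ?_)
        rw [hmat hc, ctrlM, Units.val_neg, mul_neg]
        have : (1 - (x : Matrix ι ι F)) * x = -(1 - (x : Matrix ι ι F)) := by rw [sub_mul, one_mul, hxm, neg_sub]
        rw [this, neg_neg, show (1 : Matrix ι ι F) + x + (1 - (x : Matrix ι ι F)) = (2 : F) • (1 : Matrix ι ι F) by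
          rw [two_smul]; abel, smul_smul, inv_mul_cancel₀ h2, one_smul, Units.val_one]
    rcases e with e | e <;> rw [e]
    · exact frame_le_comSub hR hB hle hk hk4 hx.mem
    · exact one_mem _
  obtain ⟨a, b, ha, hb, hxa, hxb, e⟩ := exists_commutator hR hB hle hk hk4 hq hx.mem hc.symm h1 h3
  have hbi : Commute x (a * b * a⁻¹) := ((hxa.mul_right hxb).mul_right hxa.inv_right)
  have e1 : ctrl x a * ctrl x b * (ctrl x a)⁻¹ * (ctrl x b)⁻¹ = ctrl x q := by
    rw [mul_inv_eq_iff_eq_mul, mul_inv_eq_iff_eq_mul, ctrl_mul h2 hx.sq hxa hxb, ctrl_mul h2 hx.sq hc hxb,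
      ctrl_mul h2 hx.sq (hc.mul_right hxb) hxa]
    exact congrArg (ctrl x) (by rw [← e]; group)
  rw [← e1]
  exact commutator_mem_comSub (ctrl_mem_isomM h2 (hle hx.mem) hx.sq ha hxa)
    (ctrl_mem_isomM h2 (hle hx.mem) hx.sq hb hxb)

end frame

/-- Block doubles of isometries. -/
theorem dup_mem_comSub {B' : Matrix κ κ F} (hB : Orth (bd B' B')) {a : GL κ F} (ha : a ∈ isomM B') :
    dup a ∈ comSub (bd B' B') := by
  obtain ⟨X, hX⟩ : ∃ X : GL (κ ⊕ κ) F, (X : Matrix (κ ⊕ κ) (κ ⊕ κ) F) = od 1 1 :=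
    ⟨⟨od 1 1, od 1 1, by rw [od_mul, Matrix.one_mul, bd_one], by rw [od_mul, Matrix.one_mul, bd_one]⟩, rfl⟩
  have hXB : X ∈ isomM (bd B' B') := by
    rw [mem_isomM, hX, show (od (1 : Matrix κ κ F) 1)ᵀ = od 1 1 by simp [od, Matrix.fromBlocks_transpose], od_mul_bd,
      od_mul]
    simp
  have hu : pairGL (a, 1) ∈ isomM (bd B' B') := pairGL_mem_isomM.2 ⟨ha, one_mem _⟩
  have e : pairGL (a, 1) * (X * pairGL (a, 1) * X⁻¹) = dup a := by
    have hXX : X * X = 1 := Units.ext (by rw [Units.val_mul, hX, od_mul, Matrix.one_mul, bd_one, Units.val_one])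
    rw [inv_eq_of_mul_eq_one_right hXX]
    refine Units.ext ?_
    rw [Units.val_mul, Units.val_mul, Units.val_mul, hX, coe_pairGL, coe_dup, od_mul_bd, od_mul, bd_mul]
    simp
  exact e ▸ mul_conj_mem_comSub hB hu hXB

end CfsgLib.MaxSub.OmExtra
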