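import Cfsg.Agent.Lib.MaxSub.OmExtra.Quad
import Cfsg.Agent.Lib.MaxSub.SpExtra.Main
import Mathlib.FieldTheory.Finite.Basic

/-!
Coordinates adapted to two anticommuting elements of square `-1` of a real frame of isometries of a symmetric
form: the frame becomes a quaternion group times a real frame of symplectic isometries of half the degree, and the
latter has no large elementary abelian subgroup.
-/

set_option autoImplicit false
set_option linter.unusedSectionVars false
set_option linter.unusedSimpArgs false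
set_option linter.style.haveILetI false

namespace CfsgLib.MaxSub.OmExtra

open scoped MatrixGroups
open Cfsg.Geo Matrix CfsgLib.MaxSub.DecompMax CfsgLib.MaxSub.SymReal
open CfsgLib.MaxSub.SpExtra (NoBig sumEquiv cA_fromBlocks form_fromBlocks J_props spGL_eq)
open CfsgLib.MaxSub.SymEight (bd od cA coe_coordGL cA_mulVec cA_ext bd_mul bd_mul_od od_mul_bd od_mul bd_one
  bd_neg bd_smul od_smul bd_inj od_inj pairGL coe_pairGL dup coe_dup dup_injective half exists_coord eq_dup_of_comm)

variable {ι : Type} [Fintype ι] [DecidableEq ι] {F : Type*} [Field F] [Fintype F]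

/-- A frame of symplectic isometries has no large elementary abelian subgroup. -/
theorem noBig_symp : ∀ (k : ℕ) {ι : Type} [Fintype ι] [DecidableEq ι] {R : Subgroup (GL ι F)} {B : Matrix ι ι F},
    RFrame R → Bᵀ = -B → IsUnit B → R ≤ isomM B → Fintype.card ι = 2 ^ k → NoBig k R := by
  intro k
  induction k with
  | zero =>
    intro ι _ _ R B hR hBa hBu hle hk
    exfalso
    haveI := hR.nonempty
    haveI : Subsingleton ι := Fintype.card_le_one_iff_subsingleton.1 (by rw [hk]; norm_num)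
    have hB0 : B = 0 := by
      ext i j
      have h := congrFun (congrFun hBa i) j
      rw [Subsingleton.elim j i] at h ⊢
      rw [Matrix.transpose_apply, Matrix.neg_apply] at h
      exact (mul_eq_zero.1 (show (2 : F) * B i i = 0 by linear_combination h)).resolve_left hR.two
    exact hBu.ne_zero hB0
  | succ k ih =>
    intro ι _ _ R B hR hBa hBu hle hk A hA hc hs
    classical
    haveI : Finite (GL ι F) := Finite.of_injective (fun g => (g : Matrix ι ι F)) fun _ _ => Units.ext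
    by_contra hbig
    push Not at hbig
    obtain ⟨a, haA, hane⟩ := exists_not_mem (S := A) ({1, -1} : Finset (GL ι F)) (Finset.card_le_two.trans_lt (by
      have : 2 ^ 2 ≤ 2 ^ (k + 1 + 1) := Nat.pow_le_pow_right (by norm_num) (by omega)
      omega))
    simp only [Finset.mem_insert, Finset.mem_singleton, not_or] at hane
    have haS : Sing R a := ⟨hA haA, hs a haA, hane.1, hane.2⟩
    obtain ⟨X, hX, haX⟩ := hR.exists_pair haS
    obtain ⟨d, Φ, hd, h1, h2, hB⟩ := hR.exists_blockR haS.mem hX.mem haS.sq hX.sq haX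
    obtain ⟨B₁, hB₁, -, hB₁a, hB₁u⟩ := exists_form_map B Φ
    have hmap := isomM_map Φ hB₁
    have hle₁ : R.map (coordGL Φ).toMonoidHom ≤ isomM B₁ := hmap ▸ Subgroup.map_mono hle
    obtain ⟨B', rfl⟩ : ∃ B', B₁ = bd B' B' := block_form (z := coordGL Φ a) (x := coordGL Φ X) hR.two
      (hle₁ (Subgroup.mem_map_of_mem _ haS.mem)) (hle₁ (Subgroup.mem_map_of_mem _ hX.mem)) h1 h2
    have hB'a : B'ᵀ = -B' := by
      have := hB₁a hBa
      rw [bd, Matrix.fromBlocks_transpose, Matrix.fromBlocks_neg, Matrix.fromBlocks_inj] at this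
      exact this.1
    have hB'u : IsUnit B' := by
      have := hB₁u hBu
      rw [Matrix.isUnit_iff_isUnit_det] at this ⊢
      rw [bd, Matrix.det_fromBlocks_zero₁₂] at this
      exact isUnit_of_mul_isUnit_left this
    have hnb := ih hB.half_frame hB'a hB'u (fun w hw => dup_mem_isomM.1 (hle₁ hw))
      (by rw [Fintype.card_fin]; rw [pow_succ] at hk; omega)
    obtain ⟨z, hz, hzm⟩ := hB.memZ
    haveI := hB.half_frame.nonempty
    haveI : Finite (GL (Fin d) F) := Finite.of_injective (fun g => (g : Matrix (Fin d) (Fin d) F)) fun _ _ => Units.ext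
    let T : Subgroup (GL ι F) := A.map (MonoidHom.id _)
    let A' : Subgroup (GL (Fin d) F) :=
      { carrier := {w | w * w = 1 ∧ ∃ u ∈ A, coordGL Φ u = dup w ∨ coordGL Φ u = z * dup w}
        one_mem' := ⟨one_mul 1, 1, A.one_mem, Or.inl (by rw [map_one, map_one])⟩
        mul_mem' := by
          rintro w w' ⟨hw, u, hu, e⟩ ⟨hw', u', hu', e'⟩
          have hzc : ∀ v, Commute z (dup v) := fun v => (pairGL_one_eq hR.two hzm v).2.1
          have hzz : z * z = 1 := (pairGL_one_eq hR.two hzm w).1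
          have hww : w * w' = w' * w := by
            have h := congrArg (coordGL Φ) (hc u hu u' hu')
            rw [map_mul, map_mul] at h
            refine dup_injective ?_
            rw [map_mul, map_mul]
            rcases e with e | e <;> rcases e' with e' | e' <;> rw [e, e'] at h
            · exact h
            · rw [← mul_assoc, ← (hzc w).eq, mul_assoc, mul_assoc] at h
              exact mul_left_cancel h
            · rw [← mul_assoc (dup w'), ← (hzc w').eq, mul_assoc, mul_assoc] at h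
              exact mul_left_cancel h
            · rw [mul_assoc, mul_assoc, ← mul_assoc (dup w), ← mul_assoc (dup w'), ← (hzc w).eq, ← (hzc w').eq,
                mul_assoc, mul_assoc] at h
              exact mul_left_cancel (mul_left_cancel h)
          refine ⟨by rw [mul_assoc, ← mul_assoc w' w w', ← hww, mul_assoc w w' w', hw', mul_one, hw],
            u * u', A.mul_mem hu hu', ?_⟩
          rw [map_mul, map_mul dup]
          rcases e with e | e <;> rcases e' with e' | e' <;> rw [e, e']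
          · exact Or.inl rfl
          · exact Or.inr (by rw [← mul_assoc, ← (hzc w).eq, mul_assoc])
          · exact Or.inr (by rw [mul_assoc])
          · exact Or.inl (by rw [mul_assoc, ← mul_assoc (dup w) z, ← (hzc w).eq, mul_assoc z, ← mul_assoc z z,
              hzz, one_mul])
        inv_mem' := by
          rintro w ⟨hw, u, hu, e⟩
          rw [inv_eq_of_mul_eq_one_right hw]
          exact ⟨hw, u, hu, e⟩ }
    have hrep : ∀ u : A, ∃ p : A' × Bool,
        coordGL Φ (u : GL ι F) = if p.2 then z * dup (p.1 : GL (Fin d) F) else dup (p.1 : GL (Fin d) F) := by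
      rintro ⟨u, hu⟩
      obtain ⟨w, hw, e⟩ := hB.decomp (Subgroup.mem_map_of_mem (coordGL Φ).toMonoidHom (hA hu))
      have c := congrArg Units.val (congrArg (coordGL Φ) (hc u hu a haA))
      rw [map_mul, map_mul, Units.val_mul, Units.val_mul, coe_coordGL Φ a, h1] at c
      simp only [MulEquiv.coe_toMonoidHom] at e
      have hww : w * w = 1 := by
        have hs' := congrArg (fun g => (coordGL Φ g : Matrix (Fin d ⊕ Fin d) (Fin d ⊕ Fin d) F)) (hs u hu)
        simp only [map_mul, map_one, Units.val_mul, Units.val_one, ← bd_one] at hs'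
        refine Units.ext ?_
        rw [Units.val_mul, Units.val_one]
        rcases e with e | e | e | e <;> rw [e] at hs' c
        · rw [bd_mul] at hs'; exact (bd_inj hs').1
        · rw [bd_mul] at hs'; exact (bd_inj hs').1
        all_goals
          exfalso
          rw [od_mul_bd, bd_mul_od] at c
          have hX := (od_inj c).1
          simp only [Matrix.one_mul, Matrix.mul_neg, Matrix.mul_one] at hX
          have : (2 : F) • (w : Matrix (Fin d) (Fin d) F) = 0 := by
            rw [two_smul]; nth_rewrite 1 [← hX]; exact neg_add_cancel _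
          exact w.ne_zero ((smul_eq_zero.1 this).resolve_left hR.two)
      rcases e with e | e | e | e
      · exact ⟨(⟨w, hww, u, hu, Or.inl (Units.ext (by rw [e, coe_dup]))⟩, false), Units.ext (by simp [e, coe_dup])⟩
      · have e' : coordGL Φ u = z * dup w := Units.ext (by
          rw [Units.val_mul, e, hzm, coe_dup, bd_mul, Matrix.one_mul, Matrix.neg_mul, Matrix.one_mul])
        exact ⟨(⟨w, hww, u, hu, Or.inr e'⟩, true), by simp [e']⟩
      all_goals
        exfalso
        rw [e, od_mul_bd, bd_mul_od] at c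
        have hX := (od_inj c).1
        simp only [Matrix.one_mul, Matrix.mul_neg, Matrix.mul_one] at hX
        have : (2 : F) • (w : Matrix (Fin d) (Fin d) F) = 0 := by
          rw [two_smul]; nth_rewrite 1 [← hX]; exact neg_add_cancel _
        exact w.ne_zero ((smul_eq_zero.1 this).resolve_left hR.two)
    choose f hf using hrep
    have hinj : Function.Injective f := fun u v e => Subtype.ext ((coordGL Φ).injective (by rw [hf u, hf v, e]))
    have hcard := Nat.card_le_card_of_injective f hinj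
    rw [Nat.card_prod, Nat.card_eq_fintype_card (α := Bool), Fintype.card_bool] at hcard
    have hA' : A' ≤ half (R.map (coordGL Φ).toMonoidHom) := by
      rintro w ⟨-, u, hu, e⟩
      show dup w ∈ R.map (coordGL Φ).toMonoidHom
      rcases e with e | e
      · exact e ▸ Subgroup.mem_map_of_mem _ (hA hu)
      · have : dup w = z * coordGL Φ u := by
          rw [e, ← mul_assoc, (pairGL_one_eq hR.two hzm w).1, one_mul]
        exact this ▸ mul_mem hz (Subgroup.mem_map_of_mem _ (hA hu))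
    have hlt := hnb A' hA' (fun w hw w' hw' => by
      have h := (A'.mul_mem hw hw').1
      have e1 := inv_eq_of_mul_eq_one_right h
      rw [_root_.mul_inv_rev, inv_eq_of_mul_eq_one_right hw.1, inv_eq_of_mul_eq_one_right hw'.1] at e1
      exact e1.symm) fun w hw => hw.1
    rw [pow_succ (n := k + 1)] at hbig
    omega

/-- A quaternion pair in adapted coordinates: both elements are block scalar, the form is a symplectic tensor. -/
theorem exists_split {R : Subgroup (GL ι F)} {B : Matrix ι ι F} (hR : RFrame R) (hBo : Orth B) (hle : R ≤ isomM B)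
    {k : ℕ} (hk : Fintype.card ι = 2 ^ k) (hk2 : 2 ≤ k) {d d' : GL ι F} (hd : d ∈ R) (hd' : d' ∈ R)
    (hdd : d * d = -1) (hd'd' : d' * d' = -1) (hdd' : Anti d d') :
    ∃ (m' : ℕ) (Φ : (ι → F) ≃ₗ[F] ((Fin m' ⊕ Fin m') ⊕ (Fin m' ⊕ Fin m') → F))
      (R' : Subgroup (GL (Fin m' ⊕ Fin m') F)) (α β : F),
      2 * m' = 2 ^ (k - 1) ∧ RFrame R' ∧ R' ≤ Cfsg.spGL m' F ∧ NoBig (k - 1) R' ∧
      (isomM B).map (coordGL Φ).toMonoidHom =
        isomM (od (Matrix.J (Fin m') F) (-Matrix.J (Fin m') F)) ∧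
      α * α + β * β = -1 ∧
      cA Φ (d : Matrix ι ι F) = Matrix.fromBlocks (-α • 1) (-β • 1) (-β • 1) (α • 1) ∧
      cA Φ (d' : Matrix ι ι F) = Matrix.fromBlocks (-β • 1) (α • 1) (α • 1) (β • 1) ∧
      (∀ a, a ∈ R' ↔ dup a ∈ R.map (coordGL Φ).toMonoidHom) ∧
      (∀ g : GL ι F, Commute g d → Commute g d' → ∃ a, coordGL Φ g = dup a) ∧
      (∀ y ∈ R, ∃ q ∈ R, ∃ a ∈ R', (Commute y d → Commute y d' → q = 1) ∧
        coordGL Φ y = coordGL Φ q * dup a ∧ (q = 1 ∨ q = d ∨ q = d' ∨ q = d * d')) := by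
  classical
  haveI := hR.nonempty
  have h2 := hR.two
  obtain ⟨α, β, hαβ⟩ : ∃ α β : F, α * α + β * β = -1 := by
    obtain ⟨a, b, h⟩ := FiniteField.exists_root_sum_quadratic (f := (Polynomial.X ^ 2 : Polynomial F)) (g := (Polynomial.X ^ 2 + 1 : Polynomial F))
      (Polynomial.degree_X_pow 2) (by compute_degree!) (FiniteField.odd_card_of_char_ne_two fun hc => h2 (by
        rw [ringChar.eq_iff] at hc
        exact CharTwo.two_eq_zero (R := F)))
    refine ⟨a, b, ?_⟩
    simp at h
    linear_combination h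
  have m1 : ((d : Matrix ι ι F)) * (d : Matrix ι ι F) = -1 := by
    rw [← Units.val_mul, hdd, Units.val_neg, Units.val_one]
  have m2 : ((d' : Matrix ι ι F)) * (d' : Matrix ι ι F) = -1 := by
    rw [← Units.val_mul, hd'd', Units.val_neg, Units.val_one]
  have m3 : ((d' : Matrix ι ι F)) * (d : Matrix ι ι F) = -((d : Matrix ι ι F) * (d' : Matrix ι ι F)) := by
    rw [← Units.val_mul, hdd'.symm, Units.val_neg, Units.val_mul]
  obtain ⟨s, hs⟩ : ∃ s, s = α • (d : Matrix ι ι F) + β • (d' : Matrix ι ι F) := ⟨_, rfl⟩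
  obtain ⟨X, hX⟩ : ∃ X, X = β • (d : Matrix ι ι F) - α • (d' : Matrix ι ι F) := ⟨_, rfl⟩
  have e1 : s * s = 1 := by
    rw [hs]
    simp only [add_mul, mul_add, smul_mul_smul_comm, m1, m2, m3, smul_neg]
    linear_combination (norm := module) -(hαβ • (1 : Matrix ι ι F))
  have e2 : X * X = 1 := by
    rw [hX]
    simp only [sub_mul, mul_sub, smul_mul_smul_comm, m1, m2, m3, smul_neg]
    linear_combination (norm := module) -(hαβ • (1 : Matrix ι ι F))
  have e3 : s * X = -(X * s) := by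
    rw [hs, hX]
    simp only [add_mul, mul_add, sub_mul, mul_sub, smul_mul_smul_comm, m1, m2, m3, smul_neg]
    module
  have hdlin : (d : Matrix ι ι F) = -(α • s + β • X) := by
    rw [hs, hX]; linear_combination (norm := module) (hαβ • (d : Matrix ι ι F))
  have hd'lin : (d' : Matrix ι ι F) = -(β • s - α • X) := by
    rw [hs, hX]; linear_combination (norm := module) (hαβ • (d' : Matrix ι ι F))
  obtain ⟨n, Φ₁, hn, hs1, hX1⟩ := exists_coord h2 e1 e2 e3
  have hcomm : ∀ {g : GL ι F}, Commute g d → Commute g d' →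
      (g : Matrix ι ι F) * s = s * g ∧ (g : Matrix ι ι F) * X = X * g := fun {g} h h' => by
    have c1 : (g : Matrix ι ι F) * (d : Matrix ι ι F) = (d : Matrix ι ι F) * g := congrArg Units.val h.eq
    have c2 : (g : Matrix ι ι F) * (d' : Matrix ι ι F) = (d' : Matrix ι ι F) * g := congrArg Units.val h'.eq
    rw [hs, hX]
    constructor <;>
      simp only [mul_add, add_mul, mul_sub, sub_mul, mul_smul_comm, smul_mul_assoc, c1, c2]
  -- the form
  obtain ⟨B₁, hB₁, hB₁s, -, hB₁u⟩ := exists_form_map B Φ₁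
  have hskew : ∀ {y : GL ι F}, y ∈ R → y * y = -1 → (y : Matrix ι ι F)ᵀ * B = -(B * (y : Matrix ι ι F)) :=
    fun {y} hy hyy => by
      rw [transpose_mul_of_isom (hle hy), inv_eq_of_mul_eq_one_right (a := y) (b := -y) (by rw [mul_neg, hyy, neg_neg]),
        Units.val_neg, Matrix.mul_neg]
  have hsk : ∀ {A : Matrix ι ι F}, Aᵀ * B = -(B * A) → (cA Φ₁ A)ᵀ * B₁ = -(B₁ * cA Φ₁ A) := fun {A} hA => by
    refine form_ext fun u v => ?_
    obtain ⟨u, rfl⟩ := Φ₁.surjective u
    obtain ⟨v, rfl⟩ := Φ₁.surjective v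
    have h0 : form (Aᵀ * B) u v = form (-(B * A)) u v := by rw [hA]
    have t1 : ∀ {ν : Type} [Fintype ν] [DecidableEq ν] (C D : Matrix ν ν F) (u v : ν → F),
        form (Cᵀ * D) u v = form D (C *ᵥ u) v := fun C D u v => by
      rw [form, form, ← Matrix.mulVec_mulVec, dotProduct_mulVec, Matrix.vecMul_transpose]
    have t2 : ∀ {ν : Type} [Fintype ν] [DecidableEq ν] (C D : Matrix ν ν F) (u v : ν → F),
        form (-(D * C)) u v = -form D u (C *ᵥ v) := fun C D u v => by
      rw [form, form, Matrix.neg_mulVec, dotProduct_neg, Matrix.mulVec_mulVec]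
    rw [t1, t2] at h0 ⊢
    rw [cA_mulVec, cA_mulVec, hB₁, hB₁, h0]
  have hs2 : (cA Φ₁ s)ᵀ * B₁ = -(B₁ * cA Φ₁ s) := hsk (by
    rw [hs, transpose_add, transpose_smul, transpose_smul, add_mul, Matrix.smul_mul, Matrix.smul_mul, hskew hd hdd,
      hskew hd' hd'd', mul_add, Matrix.mul_smul, Matrix.mul_smul, smul_neg, smul_neg, neg_add])
  have hX2 : (cA Φ₁ X)ᵀ * B₁ = -(B₁ * cA Φ₁ X) := hsk (by
    rw [hX, transpose_sub, transpose_smul, transpose_smul, sub_mul, Matrix.smul_mul, Matrix.smul_mul, hskew hd hdd,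
      hskew hd' hd'd', mul_sub, Matrix.mul_smul, Matrix.mul_smul, smul_neg, smul_neg]
    abel)
  obtain ⟨J₁, hJ₁, hJ₁a⟩ : ∃ J₁, B₁ = od J₁ (-J₁) ∧ J₁ᵀ = -J₁ := by
    have ez : (bd (1 : Matrix (Fin n) (Fin n) F) (-1))ᵀ = bd 1 (-1) := by simp [bd, Matrix.fromBlocks_transpose]
    have ex : (od (1 : Matrix (Fin n) (Fin n) F) 1)ᵀ = od 1 1 := by simp [od, Matrix.fromBlocks_transpose]
    rw [hs1, ez] at hs2
    rw [hX1, ex] at hX2
    have hs3 := hB₁s hBo.symm
    rw [← Matrix.fromBlocks_toBlocks B₁] at hs2 hX2 hs3 ⊢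
    simp only [bd, od, Matrix.fromBlocks_multiply, Matrix.fromBlocks_neg, Matrix.fromBlocks_transpose,
      Matrix.fromBlocks_inj, Matrix.one_mul, Matrix.mul_one, Matrix.zero_mul, Matrix.mul_zero, Matrix.neg_mul,
      Matrix.mul_neg, neg_neg, add_zero, zero_add] at hs2 hX2 hs3
    obtain ⟨z11, -, -, z22⟩ := hs2
    obtain ⟨-, -, hh, -⟩ := hs3
    have hzero : ∀ Y : Matrix (Fin n) (Fin n) F, Y = -Y → Y = 0 := fun Y h => by
      have : (2 : F) • Y = 0 := by rw [two_smul]; nth_rewrite 1 [h]; exact neg_add_cancel _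
      exact (smul_eq_zero.1 this).resolve_left h2
    refine ⟨B₁.toBlocks₁₂, ?_, ?_⟩
    · rw [od, hzero B₁.toBlocks₁₁ z11, hzero B₁.toBlocks₂₂ (by linear_combination (norm := abel) -z22), hX2.1]
    · rw [hh, hX2.1]
  obtain ⟨m', hm', hnm⟩ : ∃ m', 2 * m' = 2 ^ (k - 1) ∧ n = m' + m' := by
    obtain ⟨j, rfl⟩ : ∃ j, k = j + 2 := ⟨k - 2, by omega⟩
    refine ⟨2 ^ j, by rw [show j + 2 - 1 = j + 1 by omega, pow_succ, mul_comm], ?_⟩
    rw [pow_add] at hk
    omega
  let e : Fin n ≃ Fin m' ⊕ Fin m' := (finCongr hnm).trans finSumFinEquiv.symm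
  obtain ⟨J', hJ'⟩ : ∃ J', J' = (Matrix.J (Fin m') F).submatrix e e := ⟨_, rfl⟩
  obtain ⟨hJm, hJmu, hJma⟩ := J_props (F := F) m' h2
  have hJ'alt : CfsgLib.Classical.GraphForm.IsAlt J' := by
    refine ⟨?_, fun i => by rw [hJ', Matrix.submatrix_apply]; exact hJma.2 _⟩
    rw [hJ', Matrix.transpose_submatrix, hJm, Matrix.submatrix_neg]
    rfl
  have hJ'u : IsUnit J' := by
    rw [hJ', Matrix.isUnit_iff_isUnit_det, Matrix.det_submatrix_equiv_self, ← Matrix.isUnit_iff_isUnit_det]
    exact hJmu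
  have hJ₁alt : CfsgLib.Classical.GraphForm.IsAlt J₁ := ⟨hJ₁a, fun i => by
    have h := congrFun (congrFun hJ₁a i) i
    rw [Matrix.transpose_apply, Matrix.neg_apply] at h
    exact (mul_eq_zero.1 (show (2 : F) * J₁ i i = 0 by linear_combination h)).resolve_left h2⟩
  have hJ₁u : IsUnit J₁ := by
    obtain ⟨U, hU⟩ := hB₁u hBo.unit
    have h1 := congrArg Matrix.toBlocks₁₁ (show (U : Matrix (Fin n ⊕ Fin n) (Fin n ⊕ Fin n) F) *
      ((U⁻¹ : GL (Fin n ⊕ Fin n) F) : Matrix (Fin n ⊕ Fin n) (Fin n ⊕ Fin n) F) = 1 from U.mul_inv)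
    rw [hU, hJ₁, ← Matrix.fromBlocks_toBlocks ((U⁻¹ : GL (Fin n ⊕ Fin n) F) : Matrix (Fin n ⊕ Fin n) (Fin n ⊕ Fin n) F),
      ← Matrix.fromBlocks_one, od, Matrix.fromBlocks_multiply, Matrix.toBlocks_fromBlocks₁₁,
      Matrix.toBlocks_fromBlocks₁₁, Matrix.zero_mul, zero_add] at h1
    rw [Matrix.isUnit_iff_isUnit_det]
    exact Matrix.isUnit_det_of_right_inverse h1
  obtain ⟨P, hP⟩ := CfsgLib.Classical.GraphForm.alt_congr hJ₁alt hJ₁u hJ'alt hJ'u
  let TP : (Fin n → F) ≃ₗ[F] (Fin n → F) :=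
    LinearEquiv.ofLinear (Matrix.toLin' (P : Matrix (Fin n) (Fin n) F))
      (Matrix.toLin' ((P⁻¹ : GL (Fin n) F) : Matrix (Fin n) (Fin n) F))
      (by rw [← Matrix.toLin'_mul, Units.mul_inv, Matrix.toLin'_one])
      (by rw [← Matrix.toLin'_mul, Units.inv_mul, Matrix.toLin'_one])
  let Ψ : (Fin n → F) ≃ₗ[F] (Fin m' ⊕ Fin m' → F) := TP.trans (LinearEquiv.funCongrLeft F F e.symm)
  have hform : ∀ u v, form (Matrix.J (Fin m') F) (Ψ u) (Ψ v) = form J₁ u v := by
    intro u v
    have hΨ : ∀ w, Ψ w = ((P : Matrix (Fin n) (Fin n) F) *ᵥ w) ∘ e.symm := fun w => rfl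
    rw [← hP, ← form_mul, hΨ, hΨ, form, form, hJ', Matrix.submatrix_mulVec_equiv]
    rw [← comp_equiv_dotProduct_comp_equiv (x := ((P : Matrix (Fin n) (Fin n) F) *ᵥ u)) (y := _) (e := e.symm)]
    simp [Function.comp_assoc]
  obtain ⟨Φ, hΦdef⟩ : ∃ Φ, Φ = Φ₁.trans (sumEquiv Ψ) := ⟨_, rfl⟩
  have hodform : ∀ {ν : Type} [Fintype ν] [DecidableEq ν] (J : Matrix ν ν F) (u v : ν ⊕ ν → F),
      form (od J (-J)) u v = form J (u ∘ Sum.inl) (v ∘ Sum.inr) - form J (u ∘ Sum.inr) (v ∘ Sum.inl) := by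
    intro ν _ _ J u v
    simp [form, od, Matrix.fromBlocks_mulVec, dotProduct, Fintype.sum_sum_type, Matrix.neg_mulVec, sub_eq_add_neg]
  have hG : (isomM B).map (coordGL Φ).toMonoidHom = isomM (od (Matrix.J (Fin m') F) (-Matrix.J (Fin m') F)) :=
    isomM_map Φ fun u v => by
      rw [← hB₁ u v, hJ₁, hodform, hodform, hΦdef]
      simp [sumEquiv, hform]
  have hcA : ∀ A, cA Φ A = cA (sumEquiv Ψ) (cA Φ₁ A) := fun A => cA_ext Φ fun v => by
    rw [cA_mulVec, hΦdef, LinearEquiv.trans_apply, LinearEquiv.trans_apply, cA_mulVec, cA_mulVec]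
  have hsΦ : cA Φ s = bd 1 (-1) := by
    rw [hcA, hs1, bd, cA_fromBlocks, map_one, map_zero, map_neg, map_one]; rfl
  have hXΦ : cA Φ X = od 1 1 := by
    rw [hcA, hX1, od, cA_fromBlocks, map_one, map_zero]; rfl
  have hdΦ : cA Φ (d : Matrix ι ι F) = Matrix.fromBlocks (-α • 1) (-β • 1) (-β • 1) (α • 1) := by
    rw [hdlin, map_neg, map_add, map_smul, map_smul, hsΦ, hXΦ, bd_smul, od_smul, bd, od, Matrix.fromBlocks_add,
      Matrix.fromBlocks_neg]
    simp
  have hd'Φ : cA Φ (d' : Matrix ι ι F) = Matrix.fromBlocks (-β • 1) (α • 1) (α • 1) (β • 1) := by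
    rw [hd'lin, map_neg, map_sub, map_smul, map_smul, hsΦ, hXΦ, bd_smul, od_smul, bd, od, sub_eq_add_neg,
      Matrix.fromBlocks_neg, Matrix.fromBlocks_add, Matrix.fromBlocks_neg]
    simp
  have hdup : ∀ g : GL ι F, Commute g d → Commute g d' → ∃ a, coordGL Φ g = dup a := by
    intro g hg hg'
    have key : ∀ g : GL ι F, Commute g d → Commute g d' → ∃ A,
        (coordGL Φ g : Matrix ((Fin m' ⊕ Fin m') ⊕ (Fin m' ⊕ Fin m')) ((Fin m' ⊕ Fin m') ⊕ (Fin m' ⊕ Fin m')) F) =
          bd A A := fun g hg hg' => by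
      obtain ⟨c1, c2⟩ := hcomm hg hg'
      refine eq_dup_of_comm h2 ?_ ?_
      · rw [coe_coordGL, ← hsΦ, ← map_mul, c1, map_mul]
      · rw [coe_coordGL, ← hXΦ, ← map_mul, c2, map_mul]
    obtain ⟨A, hA⟩ := key g hg hg'
    obtain ⟨A', hA'⟩ := key g⁻¹ hg.inv_left hg'.inv_left
    have i1 : A * A' = 1 := by
      have := (coordGL Φ g).mul_inv
      rw [← map_inv, hA, hA', bd_mul, ← bd_one] at this
      exact (bd_inj this).1
    have i2 : A' * A = 1 := by
      have := (coordGL Φ g).inv_mul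
      rw [← map_inv, hA, hA', bd_mul, ← bd_one] at this
      exact (bd_inj this).1
    exact ⟨⟨A, A', i1, i2⟩, Units.ext (by rw [hA, coe_dup])⟩
  obtain ⟨R', hR'⟩ : ∃ R', R' = half (R.map (coordGL Φ).toMonoidHom) := ⟨_, rfl⟩
  have hR'm : ∀ a, a ∈ R' ↔ dup a ∈ R.map (coordGL Φ).toMonoidHom := fun a => by rw [hR']; exact Iff.rfl
  have hdec : ∀ y ∈ R, ∃ q ∈ R, ∃ a ∈ R', (Commute y d → Commute y d' → q = 1) ∧
      coordGL Φ y = coordGL Φ q * dup a ∧ (q = 1 ∨ q = d ∨ q = d' ∨ q = d * d') := by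
    intro y hy
    obtain ⟨q, hq, hq1, hc, hc', hq4⟩ : ∃ q ∈ R, (Commute y d → Commute y d' → q = 1) ∧
        Commute (q⁻¹ * y) d ∧ Commute (q⁻¹ * y) d' ∧ (q = 1 ∨ q = d ∨ q = d' ∨ q = d * d') := by
      rcases hR.comm y hy d hd with h | h <;> rcases hR.comm y hy d' hd' with h' | h'
      · exact ⟨1, R.one_mem, fun _ _ => rfl, by simpa using h, by simpa using h', Or.inl rfl⟩
      · exact ⟨d, hd, fun _ c => absurd h' (hR.not_anti c), (Commute.refl d).inv_left.mul_left h,
          hdd'.inv_left.mul_anti_left h', Or.inr (Or.inl rfl)⟩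
      · exact ⟨d', hd', fun c _ => absurd h (hR.not_anti c), hdd'.symm.inv_left.mul_anti_left h,
          (Commute.refl d').inv_left.mul_left h', Or.inr (Or.inr (Or.inl rfl))⟩
      · exact ⟨d * d', R.mul_mem hd hd', fun c _ => absurd h (hR.not_anti c),
          (Anti.comm_mul_left (Commute.refl d) hdd'.symm).inv_left.mul_anti_left h,
          (hdd'.mul_comm_left (Commute.refl d')).inv_left.mul_anti_left h', Or.inr (Or.inr (Or.inr rfl))⟩
    obtain ⟨a, ha⟩ := hdup _ hc hc'
    refine ⟨q, hq, a, (hR'm a).2 (ha ▸ Subgroup.mem_map_of_mem _ (R.mul_mem (R.inv_mem hq) hy)), hq1, ?_, hq4⟩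
    rw [← ha, ← map_mul, mul_inv_cancel_left]
  have hRm : RFrame (R.map (coordGL Φ).toMonoidHom) := hR.map Φ
  have hframe : RFrame R' := by
    have hcard : Fintype.card (Fin m' ⊕ Fin m') = 2 ^ (k - 1) := by
      rw [Fintype.card_sum, Fintype.card_fin, ← hm']; omega
    refine ⟨h2, by rw [hcard, Nat.cast_pow, Nat.cast_two]; exact pow_ne_zero _ h2, ?_, ?_, ?_, ?_, ?_⟩
    · rw [hR'm, dup_neg, map_one]; exact hRm.neg_one
    · intro a ha c hc
      rcases hRm.scal _ ((hR'm a).1 ha) c (by rw [coe_dup, hc, ← bd_smul, bd_one]) with h | h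
      · exact Or.inl (dup_injective (h.trans (map_one _).symm))
      · exact Or.inr (dup_injective (by rw [h, dup_neg, map_one]))
    · intro a ha
      rcases hRm.sq _ ((hR'm a).1 ha) with h | h
      · left; exact dup_injective (by rw [map_mul, h, map_one])
      · right; exact dup_injective (by rw [map_mul, h, dup_neg, map_one])
    · intro a ha b hb
      rcases hRm.comm _ ((hR'm a).1 ha) _ ((hR'm b).1 hb) with h | h
      · exact Or.inl (dup_injective (by rw [map_mul, map_mul, h.eq]))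
      · refine Or.inr (dup_injective ?_)
        rw [map_mul, h, dup_neg, map_mul]
    · rw [eq_top_iff]
      intro A _
      obtain ⟨L, hL⟩ : ∃ L : Submodule F (Matrix ((Fin m' ⊕ Fin m') ⊕ (Fin m' ⊕ Fin m'))
          ((Fin m' ⊕ Fin m') ⊕ (Fin m' ⊕ Fin m')) F), ∀ Y, Y ∈ L ↔ Y.toBlocks₁₁ ∈ CfsgLib.Aschbacher.alg R' :=
        ⟨(CfsgLib.Aschbacher.alg R').toSubmodule.comap
          ({ toFun := Matrix.toBlocks₁₁, map_add' := fun X Y => rfl, map_smul' := fun c X => rfl } :
            Matrix ((Fin m' ⊕ Fin m') ⊕ (Fin m' ⊕ Fin m')) ((Fin m' ⊕ Fin m') ⊕ (Fin m' ⊕ Fin m')) F →ₗ[F]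
              Matrix (Fin m' ⊕ Fin m') (Fin m' ⊕ Fin m') F), fun Y => Iff.rfl⟩
      have hgen : ∀ y ∈ R.map (coordGL Φ).toMonoidHom, (y : Matrix _ _ F) ∈ L := by
        rintro _ ⟨y, hy, rfl⟩
        obtain ⟨q, -, a, ha, -, e', hq4⟩ := hdec y hy
        have hmem : (a : Matrix (Fin m' ⊕ Fin m') (Fin m' ⊕ Fin m') F) ∈ CfsgLib.Aschbacher.alg R' :=
          Algebra.subset_adjoin ⟨a, ha, rfl⟩
        rw [hL, MulEquiv.coe_toMonoidHom, e', Units.val_mul, coe_dup]
        rcases hq4 with rfl | rfl | rfl | rfl <;>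
          simp [coe_coordGL, map_mul, hdΦ, hd'Φ, bd, Matrix.fromBlocks_multiply, hmem, Subalgebra.smul_mem,
            Subalgebra.add_mem, Subalgebra.sub_mem, Subalgebra.neg_mem, smul_smul, mul_comm β α, Subalgebra.zero_mem]
      haveI := hRm.nonempty
      have hle' := CfsgLib.Aschbacher.span_reps (R := R.map (coordGL Φ).toMonoidHom) hRm.alg
        (Submodule.mem_top (x := bd A A))
      have : bd A A ∈ L := (Submodule.span_le.2 (fun Y hY => by
        obtain ⟨Q, rfl⟩ := hY; exact hgen _ (Q.out).2)) hle'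
      rw [hL] at this
      simpa [bd] using this
  have hleSp : R' ≤ Cfsg.spGL m' F := by
    intro a ha
    rw [spGL_eq]
    have h := (hG ▸ Subgroup.map_mono hle : R.map (coordGL Φ).toMonoidHom ≤ _) ((hR'm a).1 ha)
    rw [mem_isomM, coe_dup, bd, od, Matrix.fromBlocks_transpose, Matrix.fromBlocks_multiply,
      Matrix.fromBlocks_multiply, Matrix.fromBlocks_inj] at h
    simpa [mem_isomM] using h.2.1
  refine ⟨m', Φ, R', α, β, hm', hframe, hleSp, ?_, hG, hαβ, hdΦ, hd'Φ, hR'm, hdup, hdec⟩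
  exact noBig_symp (k - 1) hframe hJm hJmu (spGL_eq (F := F) m' ▸ hleSp) (by
    rw [Fintype.card_sum, Fintype.card_fin]; omega)

end CfsgLib.MaxSub.OmExtra
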